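import Cfsg.Agent.Lib.Co2Recog.Model.Count
import Cfsg.Agent.Lib.Co2Recog.Setup
import Cfsg.Agent.Lib.Co2Recog.Edge.Codes

/-!
The model: the centraliser of the octad involution in the second Conway group satisfies the hypotheses of the
recognition; the sign changes; the action of coded monomial elements on the 63 lines.
-/

set_option autoImplicit false
set_option maxRecDepth 20000
set_option linter.unusedSectionVars false

noncomputable section

namespace Cfsg.Agent.Co2Recog.Side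

open Cfsg Cfsg.Agent.Golay Cfsg.Agent.Leech Cfsg.Agent.PermCert
open Cfsg.Agent.Co2Recog.Layers (incl2 N2 liftU incl2_lift incl2_fix)
open Cfsg.Agent.Co2Graph (C2 mem_C2 incl2_t2)
open scoped Pointwise

theorem incl2_injective : Function.Injective incl2 := Subgroup.inclusion_injective _

/-- The map to the stabiliser of the root. -/
def toSt : ↥(Subgroup.centralizer ({E8Cent.t2} : Set ↥Spor.Co2)) →* ↥E8Cent.St := E8Cent.centEquiv.toMonoidHom

theorem toSt_val (x : ↥(Subgroup.centralizer ({E8Cent.t2} : Set ↥Spor.Co2))) :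
    (((toSt x : ↥E8Cent.St) : ↥E8Cent.Cc) : Co0) = incl2 (x : ↥Spor.Co2) := rfl

theorem toSt_surj : Function.Surjective toSt := E8Cent.centEquiv.surjective

/-- The action on the 63 lines. -/
def f2 : ↥(Subgroup.centralizer ({E8Cent.t2} : Set ↥Spor.Co2)) →* Equiv.Perm (Fin 63) := E8Cent.act63.comp toSt

/-- The extraspecial subgroup. -/
def Q2 : Subgroup ↥Spor.Co2 := f2.ker.map (Subgroup.centralizer ({E8Cent.t2} : Set ↥Spor.Co2)).subtype

theorem mem_f2ker {x : ↥(Subgroup.centralizer ({E8Cent.t2} : Set ↥Spor.Co2))} :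
    x ∈ f2.ker ↔ ((toSt x : ↥E8Cent.St) : ↥E8Cent.Cc) ∈ E8Cent.rho.ker := by
  rw [MonoidHom.mem_ker, f2, MonoidHom.comp_apply, ← MonoidHom.mem_ker, E8Cent.act63_facts.2,
    Subgroup.mem_subgroupOf]

theorem mem_Q2 {x : ↥Spor.Co2} : x ∈ Q2 ↔ ∃ g ∈ E8Cent.rho.ker, (g : Co0) = incl2 x := by
  constructor
  · rintro ⟨y, hy, rfl⟩
    exact ⟨_, mem_f2ker.1 hy, toSt_val y⟩
  · rintro ⟨g, hg, e⟩
    have hx : x ∈ Subgroup.centralizer ({E8Cent.t2} : Set ↥Spor.Co2) := by
      show x ∈ C2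
      rw [mem_C2, ← e]; exact g.2
    refine ⟨⟨x, hx⟩, mem_f2ker.2 ?_, rfl⟩
    rwa [show ((toSt ⟨x, hx⟩ : ↥E8Cent.St) : ↥E8Cent.Cc) = g from Subtype.ext ((toSt_val _).trans e.symm)]

theorem f2_range : f2.range = Sp63 := by
  rw [f2, MonoidHom.range_comp, MonoidHom.range_eq_top.2 toSt_surj, ← MonoidHom.range_eq_map]
  exact E8Cent.act63_facts.1

theorem f2_ker : f2.ker = Q2.subgroupOf (Subgroup.centralizer ({E8Cent.t2} : Set ↥Spor.Co2)) :=
  (Subgroup.comap_map_eq_self_of_injective (Subgroup.subtype_injective _) _).symm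

theorem Q2_le_C2 : Q2 ≤ C2 := fun x hx => by
  obtain ⟨y, -, rfl⟩ := hx
  exact y.2

/-- The extraspecial subgroup in the centraliser of the cross. -/
def equivKer : ↥Q2 ≃* ↥E8Cent.rho.ker where
  toFun x := ⟨⟨incl2 (x : ↥Spor.Co2), mem_C2.1 (Q2_le_C2 x.2)⟩, by
    obtain ⟨g, hg, e⟩ := mem_Q2.1 x.2
    rwa [show (⟨incl2 (x : ↥Spor.Co2), mem_C2.1 (Q2_le_C2 x.2)⟩ : ↥E8Cent.Cc) = g from Subtype.ext e.symm]⟩
  invFun g := ⟨liftU ((g : ↥E8Cent.Cc) : Co0) (E8Cent.st_fix (E8Cent.ker_le_St g.2)),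
    mem_Q2.2 ⟨g, g.2, (incl2_lift _ _).symm⟩⟩
  left_inv x := Subtype.ext (incl2_injective rfl)
  right_inv g := Subtype.ext (Subtype.ext rfl)
  map_mul' x y := Subtype.ext (Subtype.ext (map_mul incl2 _ _))

theorem card_Q2 : Nat.card ↥Q2 = 512 := (Nat.card_congr equivKer.toEquiv).trans E8Cent.card_ker

theorem t2_order : orderOf E8Cent.t2 = 2 := by
  haveI : Fact (Nat.Prime 2) := ⟨Nat.prime_two⟩
  refine orderOf_eq_prime ?_ fun h => E8Cent.t0_ne_one ?_
  · exact incl2_injective (by rw [map_pow, map_one, incl2_t2, pow_two, E8Cent.t0_sq])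
  · rw [← incl2_t2, h, map_one]

/-- The sign changes of the group. -/
def A2 : Subgroup ↥Spor.Co2 where
  carrier := {x | ∃ c : golayCode, incl2 x = Leech.diag c}
  one_mem' := ⟨0, (map_one incl2).trans Leech.diag_zero.symm⟩
  mul_mem' := by
    rintro x y ⟨c, hc⟩ ⟨d, hd⟩
    exact ⟨c + d, by rw [map_mul, hc, hd, Leech.diag_add]⟩
  inv_mem' := by
    rintro x ⟨c, hc⟩
    refine ⟨c, ?_⟩
    rw [map_inv, hc, inv_eq_iff_mul_eq_one, ← Leech.diag_add,
      show c + c = 0 from Subtype.ext (funext fun _ => CharTwo.add_self_eq_zero _), Leech.diag_zero]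

theorem mem_A2 {x : ↥Spor.Co2} : x ∈ A2 ↔ ∃ c : golayCode, incl2 x = Leech.diag c := Iff.rfl

theorem A2_le_N2 : A2 ≤ N2 := by
  rintro x ⟨c, hc⟩
  show incl2 x ∈ crossStab
  rw [hc]
  exact mono_mem _

theorem A2_comm {x y : ↥Spor.Co2} (hx : x ∈ A2) (hy : y ∈ A2) : x * y = y * x := by
  obtain ⟨c, hc⟩ := hx
  obtain ⟨d, hd⟩ := hy
  exact incl2_injective (by rw [map_mul, map_mul, hc, hd, ← Leech.diag_add, ← Leech.diag_add, add_comm])

theorem t2_A2 : E8Cent.t2 ∈ A2 := ⟨E8Cent.xWord, incl2_t2⟩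

theorem A2_le_C2 : A2 ≤ C2 := fun _ hx =>
  Subgroup.mem_centralizer_singleton_iff.2 (A2_comm hx t2_A2)

theorem A2_conj {n x : ↥Spor.Co2} (hn : n ∈ N2) (hx : x ∈ A2) : n * x * n⁻¹ ∈ A2 := by
  obtain ⟨c, hc⟩ := hx
  let a := pairOf ⟨incl2 n, hn⟩
  refine ⟨⟨OctadSpace.moved (a.1 : Equiv.Perm GolayPt) c, OctadSpace.moved_mem a.1.2 c.2⟩, ?_⟩
  rw [map_mul, map_mul, map_inv, hc, show incl2 n = mono a from (mono_pairOf ⟨incl2 n, hn⟩).symm, Edge.mono_diag,
    mul_inv_cancel_right]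

theorem card_A2 : 1024 ≤ Nat.card ↥A2 := by
  haveI := Co2Graph.finite_Co2
  refine le_trans Co2Graph.card_pairCode ?_
  let f : ↥Co2Graph.pairVal.ker → ↥A2 := fun c =>
    ⟨liftU (mono (1, (c : golayCode))) (Co2Graph.mono_fixU (show (1 : Equiv.Perm GolayPt) • Co2Graph.pairSet = Co2Graph.pairSet from one_smul _ _) fun _ hp => Co2Graph.mem_pairVal hp),
      c, rfl⟩
  refine Nat.card_le_card_of_injective f fun a b e => ?_
  have := mono_injective (congrArg (fun z : ↥A2 => incl2 (z : ↥Spor.Co2)) e)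
  exact Subtype.ext (congrArg Prod.snd this)

theorem Q2_le_N2 : Q2 ≤ N2 := fun x hx => by
  obtain ⟨g, hg, e⟩ := mem_Q2.1 hx
  obtain ⟨a, ha, -⟩ := E8Cent.ker_mono hg
  show incl2 x ∈ crossStab
  rw [← e, ← ha]
  exact mono_mem a

/-- **The model satisfies the hypotheses.** -/
theorem setup2 : Setup E8Cent.t2 Q2 where
  ht := t2_order
  le := Q2_le_C2
  norm := fun x hx q hq => by
    obtain ⟨g, hg, e⟩ := mem_Q2.1 hq
    let m : ↥E8Cent.Cc := ⟨incl2 x, mem_C2.1 hx⟩
    refine mem_Q2.2 ⟨m * g * m⁻¹, (MonoidHom.normal_ker _).conj_mem g hg m, ?_⟩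
    rw [map_mul, map_mul, map_inv, ← e]
    rfl
  extra := Qd.isExtraspecial_congr equivKer E8Cent.ker_xs
  card := card_Q2
  self := fun x hx hcomm => by
    let m : ↥E8Cent.Cc := ⟨incl2 x, mem_C2.1 hx⟩
    have hphi : E8Cent.phiC m ∈ Subgroup.centralizer (E8Cent.Q1 : Set E8Cent.C1) := by
      refine Subgroup.mem_centralizer_iff.2 fun q hq => ?_
      obtain ⟨g, hg, rfl⟩ := hq
      rw [← map_mul, ← map_mul]
      congr 1
      have h := congrArg incl2 (hcomm _ (equivKer.symm ⟨g, hg⟩).2)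
      rw [map_mul, map_mul] at h
      refine Subtype.ext ?_
      show ((g : ↥E8Cent.Cc) : Co0) * incl2 x = incl2 x * ((g : ↥E8Cent.Cc) : Co0)
      exact h.symm
    obtain ⟨k, hk, ek⟩ := E8Cent.centralizer_Q1 hphi
    rcases E8Cent.phiC_eq.1 ek with e | e
    · exact mem_Q2.2 ⟨k, hk, (congrArg Subtype.val e).symm⟩
    · exfalso
      have hu : E8Cent.rho m E8Cent.uF = E8Cent.uF := E8Cent.rootV_inj (by
        rw [E8Cent.rho_spec, E8Cent.rootV_uF]; exact incl2_fix x)
      rw [e, map_mul, Equiv.Perm.mul_apply, E8Cent.negC_rho, MonoidHom.mem_ker.1 hk, Equiv.Perm.one_apply] at hu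
      exact E8Cent.negF_ne _ hu
  quot := ⟨f2, f2_range, f2_ker⟩
  moved := by
    haveI := Co2Graph.finite_Co2
    by_contra hno
    push Not at hno
    have hle : N2 ≤ C2 := fun n hn => Subgroup.mem_centralizer_singleton_iff.2
      (mul_inv_eq_iff_eq_mul.1 (hno n (A2_le_C2 (A2_conj hn t2_A2))))
    have h1 := Co2Graph.card_N2
    have h2 := Subgroup.card_le_of_le hle
    have h3 := Co2Graph.card_C2
    omega

/-! ### Monomial elements on the lines -/

/-- A coordinate of a root by the number of the point. -/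
def rootVal (y : List ℤ) (n : ℕ) : ℤ := 2 * y.getD (E8Cent.oIdx.idxOf n) 0

/-- The root of a line. -/
def lineRoot (j : ℕ) : List ℤ := E8Cent.rootList.getD (get 8 E8Cent.sec63Code j) []

/-- A coded monomial element carries the one line to the other. -/
def imgOK (e : PermCert.Elt) (s j k : ℕ) : Bool :=
  allBelow (fun n => (if s.testBit n then -1 else 1) * rootVal (lineRoot j) (get 5 e.2 n) ==
    rootVal (lineRoot k) n) 24 ||
  allBelow (fun n => (if s.testBit n then -1 else 1) * rootVal (lineRoot j) (get 5 e.2 n) ==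
    -rootVal (lineRoot k) n) 24

/-- A coded monomial element moves the lines as the given function. -/
def linesAs (e : PermCert.Elt) (s : ℕ) (f : Fin 63 → Fin 63) : Bool :=
  (List.finRange 63).all fun j => imgOK e s j (f j)

theorem rootY_sec (j : Fin 63) : E8Cent.rootY (E8Cent.secF E8Cent.sec63Code j) = lineRoot j := by
  obtain ⟨-, -, e⟩ := E8Cent.sec_facts E8Cent.lines63_ok j
  rw [E8Cent.rootY, lineRoot, ← e, List.getD_eq_getElem]

/-- **The image on the lines.** -/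
theorem f2_lines {x : ↥(Subgroup.centralizer ({E8Cent.t2} : Set ↥Spor.Co2))} {e : PermCert.Elt} {s : ℕ}
    (hM : permOf e ∈ M24) (hs : ofMask s ∈ golayCode) (hv : validElt 5 24 e = true)
    (hx : incl2 (x : ↥Spor.Co2) = mono (⟨permOf e, hM⟩, ⟨ofMask s, hs⟩)) {f : Fin 63 → Fin 63}
    (h : linesAs e s f = true) (j : Fin 63) : f2 x j = f j := by
  have hj : imgOK e s j (f j) = true := List.all_eq_true.1 h j (List.mem_finRange j)
  show (E8Cent.lineF 6 E8Cent.line63Code
    (E8Cent.rho ((toSt x : ↥E8Cent.St) : ↥E8Cent.Cc) (E8Cent.secF E8Cent.sec63Code j)) : Fin 63) = f j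
  have hval : ∀ p : GolayPt, (((((toSt x : ↥E8Cent.St) : ↥E8Cent.Cc) : Co0) •
      E8Cent.rootV (E8Cent.secF E8Cent.sec63Code j) : leechLattice) : GolayPt → ℤ) p =
      (if s.testBit (idx p) then -1 else 1) * rootVal (lineRoot j) (get 5 e.2 (idx p)) := by
    intro p
    rw [toSt_val, hx, mono_smul]
    show sgn (ofMask s) p * E8Cent.emb (E8Cent.rootY _) ((permOf e).symm p) = _
    rw [rootY_sec, E8Cent.emb, E8Cent.pos, idx_permOf_symm hv]
    congr 1
    simp only [sgn, ofMask]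
    by_cases hb : s.testBit (idx p) = true <;> simp [hb]
  have htgt : ∀ p : GolayPt, (E8Cent.rootV (E8Cent.secF E8Cent.sec63Code (f j)) : GolayPt → ℤ) p =
      rootVal (lineRoot (f j)) (idx p) := fun p => by
    show E8Cent.emb (E8Cent.rootY _) p = _
    rw [rootY_sec]
    rfl
  obtain ⟨hperp, hline, -⟩ := E8Cent.sec_facts E8Cent.lines63_ok (f j)
  simp only [imgOK, Bool.or_eq_true] at hj
  rcases hj with hj | hj
  · rw [show E8Cent.rho ((toSt x : ↥E8Cent.St) : ↥E8Cent.Cc) (E8Cent.secF E8Cent.sec63Code j) =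
      E8Cent.secF E8Cent.sec63Code (f j) from E8Cent.rootV_inj (Subtype.ext (funext fun p => by
        rw [E8Cent.rho_spec, hval, htgt]
        exact eq_of_beq (allBelow_spec _ _ hj (idx p) (idx_lt p))))]
    exact hline
  · rw [show E8Cent.rho ((toSt x : ↥E8Cent.St) : ↥E8Cent.Cc) (E8Cent.secF E8Cent.sec63Code j) =
      E8Cent.negF (E8Cent.secF E8Cent.sec63Code (f j)) from E8Cent.rootV_inj (Subtype.ext (funext fun p => by
        rw [E8Cent.rho_spec, E8Cent.rootV_negF, AddSubgroup.coe_neg, Pi.neg_apply, hval, htgt]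
        exact eq_of_beq (allBelow_spec _ _ hj (idx p) (idx_lt p))))]
    exact (E8Cent.line_facts E8Cent.lines63_ok hperp).2.1.trans hline

end Cfsg.Agent.Co2Recog.Side
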