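import Cfsg.Agent.Lib.Co2Recog.Side.FC
import Cfsg.Agent.Lib.Co2Recog.NA.Export
import Cfsg.Agent.Lib.Co2Recog.Edge.Extension
import Cfsg.Agent.Lib.Co2Recog.RootConj

/-!
**The amalgam**: a group with this centraliser of an involution contains a copy of the second Conway group which
contains the centraliser and the normaliser of the abelian subgroup.
-/

set_option autoImplicit false
set_option maxRecDepth 20000

noncomputable section

namespace Cfsg.Agent.Co2Recog.Side

open Cfsg Subgroup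
open Cfsg.Agent.Co2Recog.NA
open Cfsg.Agent.Co2Recog.Layers (N2)

universe u

/-- **The embedding.** -/
theorem exists_embedding {G : Type u} [Group G] [Finite G] {t : G} {Q : Subgroup G} (S : Setup t Q)
    (K : Coords t Q) :
    ∃ φ : ↥Spor.Co2 →* G, Function.Injective φ ∧ φ E8Cent.t2 = t ∧
      (∀ g, g * φ E8Cent.t2 = φ E8Cent.t2 * g → g ∈ φ.range) ∧ A2.map φ = AA K ∧
      ∀ g ∈ normalizer (AA K : Set G), g ∈ φ.range := by
  obtain ⟨fN, hinj, hrange, ht2, hA⟩ := exists_fN S K (not_fused S K) (K.rootConj S)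
  obtain ⟨f, fC, finj, frange, ft2, fabel, cinj, crange, hag⟩ := exists_sides S K fN hinj hrange (ht2 _) hA
  obtain ⟨φ, pinj, pt2, pcent, -, pN⟩ := Edge.exists_phi t (Setup.na_ne S) f fC cinj crange hag ft2
  refine ⟨φ, pinj, pt2, pcent, le_antisymm ?_ fun y hy => ?_, fun g hg => ?_⟩
  · rintro _ ⟨x, hx, rfl⟩
    exact (pN ⟨x, A2_le_N2 hx⟩) ▸ (fabel ⟨x, A2_le_N2 hx⟩).2 hx
  · obtain ⟨x, rfl⟩ := frange.ge (le_normalizer hy)
    exact ⟨x, (fabel x).1 hy, pN x⟩
  · obtain ⟨x, rfl⟩ := frange.ge hg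
    exact ⟨x, pN x⟩

end Cfsg.Agent.Co2Recog.Side
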