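import Cfsg.Agent.Lib.Co2Recog.Side.Iso

/-!
An isomorphism of the two centralisers inside the normalisers carries the extraspecial subgroup to the extraspecial
subgroup, and on the spin module it is a Levi element times a form; the validity of the form is its class, and
classes add under composition.
-/

set_option autoImplicit false
set_option maxRecDepth 100000
set_option linter.unusedSectionVars false

noncomputable section

namespace Cfsg.Agent.Co2Recog.Side

open Equiv Subgroup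
open Cfsg.Agent.ThRec.Eight (act ap ap_xor ap_zero act_xor act_zero act_append)
open Cfsg.Agent.Co2Recog.NA

theorem gen_inv8 : ∀ j < 5, ∀ k < 8, act sX (cw j) (act sX (cw j) (2 ^ k)) = 2 ^ k := by decide +kernel

theorem L_rev {u : List ℕ} (hu : Lev u) {v : ℕ} (hv : v < 256) :
    act sX (cwW u.reverse) (act sX (cwW u) v) = v := by
  induction u with
  | nil => rfl
  | cons j u ih =>
    rw [List.reverse_cons, cwW_append, show cwW [j] = cw j by simp [cwW], cwW_cons, act_append, act_append]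
    have h : act sX (cw j) (act sX (cw j) (act sX (cwW u) v)) = act sX (cwW u) v :=
      ext8 (f := fun w => act sX (cw j) (act sX (cw j) w)) (g := fun w => w)
        (fun _ _ _ _ => by simp only [act_xor]) (fun _ _ _ _ => rfl) (gen_inv8 j hu.head) (act_lt _ hv)
    rw [h, ih hu.tail]

theorem L_rev' {u : List ℕ} (hu : Lev u) {v : ℕ} (hv : v < 256) :
    act sX (cwW u) (act sX (cwW u.reverse) v) = v := by
  have := L_rev hu.reverse hv
  rwa [List.reverse_reverse] at this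

theorem F_gen : ∀ j < 5, ∀ b < 64, ap (cjT.getD j []) (ap (cjT.getD j []) b) = b := by decide +kernel

theorem F_rev {u : List ℕ} (hu : Lev u) {b : ℕ} (hb : b < 64) :
    wAct cjT u.reverse (wAct cjT u b) = b := by
  induction u with
  | nil => rfl
  | cons j u ih =>
    rw [List.reverse_cons, wAct_append, wAct, wAct, wAct, F_gen j hu.head _ (F_act hu.tail hb).1, ih hu.tail]

/-- A valid form fixed by the stabiliser of a point of the quotient is fixed by everything. -/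
theorem stab_forms : (∀ u ∈ stabU, (∀ j ∈ u, j < 5) ∧ wAct gZ u 1 = 1) ∧
    (∀ b < 64, validF b = true → (∀ u ∈ stabU, wAct cjT u b = b) → b = 0 ∨ b = 48) ∧
    (∀ j < 5, ap (cjT.getD j []) 0 = 0 ∧ ap (cjT.getD j []) 48 = 48) ∧
    (∀ p ∈ zPath, (∀ j ∈ p.2, j < 5) ∧ wAct gZ p.2 1 = p.1) ∧
    zPath.map Prod.fst = [2, 3, 4, 8] := by
  decide +kernel

variable {G : Type*} [Group G] {t : G} {Q : Subgroup G} {G' : Type*} [Group G'] {t' : G'} {Q' : Subgroup G'}
variable {K : Coords t Q} {K' : Coords t' Q'} {h : ↥(HH K) →* G'}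

/-- The class of an isomorphism: whether its form is valid. -/
def Cls (K : Coords t Q) (K' : Coords t' Q') (h : ↥(HH K) →* G') (v : Bool) : Prop :=
  ∃ u, Lev u ∧ ∃ b < 64, validF b = v ∧
    ∀ x : ↥(HH K), (x : G) ∈ Q → K'.c (h x) = act sX (cwW u) (ap (alphaM b) (K.c (x : G)))

namespace IsoH

variable (I : IsoH K K' h) (S : Setup t Q) (S' : Setup t' Q')
include I S S'

/-- Following by an inner automorphism. -/
theorem conj {g : G'} (hg : g ∈ HH K') : IsoH K K' ((MulAut.conj g).toMonoidHom.comp h) where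
  inj := (MulAut.conj g).injective.comp I.inj
  range := by
    refine le_antisymm ?_ fun y hy => ?_
    · rintro _ ⟨x, rfl⟩
      exact mul_mem (mul_mem hg (I.mem S S' x)) (inv_mem hg)
    · obtain ⟨x, hx⟩ := (show g⁻¹ * y * g ∈ h.range by
        rw [I.range]; exact mul_mem (mul_mem (inv_mem hg) hy) hg)
      exact ⟨x, by
        show g * h x * g⁻¹ = y
        rw [hx]; group⟩
  center x hx := by
    show g * h x * g⁻¹ = t'
    rw [I.center x hx, mem_centralizer_singleton_iff.1 hg.1, mul_inv_cancel_right]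
  abel x := by
    show g * h x * g⁻¹ ∈ AA K' ↔ _
    rw [← mem_normalizer_iff.1 hg.2, I.abel]

section Trivial

variable (triv : ∀ e : ↥(HH K), (e : G) ∈ Q → inW (K.c (e : G)) = true → K'.c (h e) = K.c (e : G))
include triv

theorem trivial_Q {x : ↥(HH K)} (hx : (x : G) ∈ Q) : h x ∈ Q' := by
  classical
  have hform : ∀ x : ↥(HH K), (x : G) ∈ Q → ∃ b, Frm K' (h x) b ∧ validF b = true := fun x hx =>
    (I.map_fix S S' (Q_fix S K hx)).form S' K'
  choose! B hB hBv using hform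
  have hmul : ∀ x y : ↥(HH K), (x : G) ∈ Q → (y : G) ∈ Q → B (x * y) = B x ^^^ B y := fun x y hx hy => by
    refine Frm.unique (hB _ (mul_mem hx hy)) ?_
    rw [map_mul]
    exact (hB x hx).mul S' (I.mem S S' y).1 (hB y hy)
  have hE : ∀ e : ↥(HH K), (e : G) ∈ Q → inW (K.c (e : G)) = true → B e = 0 := fun e he hW =>
    Frm.unique (hB e he) (frm_Q S' (I.map_E S S' he hW).1)
  have hwd : ∀ x y : ↥(HH K), (x : G) ∈ Q → (y : G) ∈ Q → xc (K.c (x : G)) = xc (K.c (y : G)) → B x = B y := by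
    intro x y hx hy e
    have hd : ((x * y : ↥(HH K)) : G) ∈ Q := mul_mem hx hy
    have hW : inW (K.c ((x * y : ↥(HH K)) : G)) = true := by
      rw [w_xc _ (K.c_lt _ hd), Nat.beq_eq]
      rw [Subgroup.coe_mul, K.c_mul _ hx _ hy, xc_xor, e, Nat.xor_self]
    exact Nat.xor_eq_zero_iff.1 ((hmul x y hx hy).symm.trans (hE _ hd hW))
  have hexi : ∀ z < 16, ∃ x : ↥(HH K), (x : G) ∈ Q ∧ xc (K.c (x : G)) = z := fun z hz => by
    obtain ⟨q, hq, e⟩ := exists_c S K (fz_facts z hz).1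
    exact ⟨⟨q, Q_le S K hq⟩, hq, by show xc (K.c q) = z; rw [e]; exact (fz_facts z hz).2⟩
  choose! X hXQ hXc using hexi
  let β : ℕ → ℕ := fun z => B (X z)
  have hβ : ∀ x : ↥(HH K), (x : G) ∈ Q → B x = β (xc (K.c (x : G))) := fun x hx =>
    have hz := (v_split _ (K.c_lt _ hx)).1
    hwd x _ hx (hXQ _ hz) (hXc _ hz).symm
  -- equivariance
  have hequi : ∀ u, Lev u → ∀ z < 16, β (wAct gZ u z) = wAct cjT u (β z) := by
    intro u hu z hz
    obtain ⟨g, hgw, hgc⟩ := exists_lift_lev S K hu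
    obtain ⟨g', hgw', hgc'⟩ := exists_lift_lev S' K' hu
    set x := X z with hxdef
    have hx := hXQ z hz
    have hy : ((g * x * g⁻¹ : ↥(HH K)) : G) ∈ Q := Setup.na_conj S g.2.1 hx
    have hBy : B (g * x * g⁻¹) = β (wAct gZ u z) := by
      rw [hβ _ hy]
      congr 1
      show xc (K.c ((g : G) * x * (g : G)⁻¹)) = _
      rw [hgc _ hx, Z_act hu (K.c_lt _ hx), hXc z hz]
    -- the image of `g` differs from `g'` by a fixing element
    let hg : ↥(HH K') := ⟨h g, I.mem S S' g⟩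
    have hf : FixW K' ((hg : G') * (g' : G')⁻¹) := by
      refine (fix_iff S' K' (hg * g'⁻¹)).1 ?_
      rw [map_mul, map_inv, mul_inv_eq_one]
      refine Equiv.ext fun i => Fin.ext ?_
      rw [hgw']
      obtain ⟨a1, a2, a3⟩ := repE_spec S K i
      let e : ↥(HH K) := ⟨repE S K i, Q_le S K a1⟩
      obtain ⟨m1, m2⟩ := I.map_E S S' (e := e) a1 a3
      have t1 : K'.c (h e) = ew i := (triv e a1 a3).trans a2
      have e1 := wmap_spec S' K' hg m1 m2
      have t2 := triv (g * e * g⁻¹) (Setup.na_conj S g.2.1 a1) (HH_keep S K g.2 a1 a3)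
      rw [map_mul, map_mul, map_inv, e1, show ((g * e * g⁻¹ : ↥(HH K)) : G) = (g : G) * repE S K i * (g : G)⁻¹ from
        rfl, hgc _ a1, a2, W_act hu i.2] at t2
      have e3 := ew_inj _ (Fin.isLt _) _ (W_lt hu i.2) t2
      have ei : (⟨wi (K'.c (h e)), wi_lt _⟩ : Fin 16) = i := Fin.ext (by
        show wi (K'.c (h e)) = i; rw [t1, wi_ew _ i.2])
      rw [ei] at e3
      exact e3
    obtain ⟨d, hd, -⟩ := hf.form S' K'
    set f := (hg : G') * (g' : G')⁻¹ with hfdef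
    have hgf : h g = f * g' := (inv_mul_cancel_right (h g) (g' : G')).symm
    have hBx := hB x hx
    -- conjugation by `g'`
    have h1 : Frm K' ((g' : G') * h x * (g' : G')⁻¹) (wAct cjT u (B x)) := by
      refine ⟨(F_act hu hBx.1).1, fun q hq => ?_⟩
      have hq' : (g' : G')⁻¹ * q * (g' : G') ∈ Q' := by
        have := Setup.na_conj S' (inv_mem g'.2.1) hq
        rwa [inv_inv] at this
      have hm : h x * ((g' : G')⁻¹ * q * g') * (h x)⁻¹ ∈ Q' := Setup.na_conj S' (I.mem S S' x).1 hq'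
      rw [show (g' : G') * h x * (g' : G')⁻¹ * q * ((g' : G') * h x * (g' : G')⁻¹)⁻¹ =
        (g' : G') * (h x * ((g' : G')⁻¹ * q * g') * (h x)⁻¹) * (g' : G')⁻¹ by group, hgc' _ hm, hBx.2 _ hq',
        (F_act hu hBx.1).2.2 _ (K'.c_lt _ hq'), ← hgc' _ hq',
        show (g' : G') * ((g' : G')⁻¹ * q * g') * (g' : G')⁻¹ = q by group]
    have h2 := (hd.mul S' (mul_mem (mul_mem g'.2.1 (I.mem S S' x).1) (inv_mem g'.2.1)) h1).mul S'
      (inv_mem hf.1) (frm_inv S' K' hf.1 hd)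
    rw [show d ^^^ wAct cjT u (B x) ^^^ d = wAct cjT u (B x) by
      rw [Nat.xor_comm d, Nat.xor_assoc, Nat.xor_self, Nat.xor_zero],
      show f * ((g' : G') * h x * (g' : G')⁻¹) * f⁻¹ = h (g * x * g⁻¹) by
        rw [map_mul, map_mul, map_inv, hgf]; group] at h2
    rw [← hBy]
    exact Frm.unique (hB _ hy) h2
  have hβv : ∀ z < 16, β z < 64 ∧ validF (β z) = true := fun z hz => ⟨(hB _ (hXQ z hz)).1, hBv _ (hXQ z hz)⟩
  have hβx : ∀ z < 16, ∀ z' < 16, β (z ^^^ z') = β z ^^^ β z' := fun z hz z' hz' => by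
    rw [← hmul _ _ (hXQ z hz) (hXQ z' hz'), hβ (X z * X z') (mul_mem (hXQ z hz) (hXQ z' hz')),
      Subgroup.coe_mul, K.c_mul _ (hXQ z hz) _ (hXQ z' hz'), xc_xor, hXc z hz, hXc z' hz']
  obtain ⟨s1, s2, s3, s4, s5⟩ := stab_forms
  have hX1 : β 1 = 0 ∨ β 1 = 48 := s2 _ (hβv 1 (by norm_num)).1 (hβv 1 (by norm_num)).2 fun u hu => by
    rw [← hequi u (s1 u hu).1 1 (by norm_num), (s1 u hu).2]
  have hfix : ∀ u, Lev u → wAct cjT u (β 1) = β 1 := by
    intro u hu
    induction u with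
    | nil => rfl
    | cons j u ih =>
      rw [wAct, ih hu.tail]
      rcases hX1 with e | e <;> rw [e]
      exacts [(s3 j hu.head).1, (s3 j hu.head).2]
  have hz : ∀ z ∈ [2, 3, 4, 8], β z = β 1 := by
    intro z hz
    rw [← s5, List.mem_map] at hz
    obtain ⟨p, hp, rfl⟩ := hz
    rw [← (s4 p hp).2, hequi p.2 (s4 p hp).1 1 (by norm_num), hfix _ (s4 p hp).1]
  have h1 : β 1 = 0 := by
    have := hβx 1 (by norm_num) 2 (by norm_num)
    rw [show (1 : ℕ) ^^^ 2 = 3 from rfl, hz 3 (by simp), hz 2 (by simp), Nat.xor_self] at this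
    exact this
  have h0 : ∀ z < 16, β z = 0 := sixteen_ind
    (by have := hβx 0 (by norm_num) 0 (by norm_num); rwa [Nat.xor_self, Nat.xor_self] at this)
    fun i hi j hj e => by
      rw [hβx i hi j (by revert j; decide), e, Nat.zero_xor]
      simp only [List.mem_cons, List.not_mem_nil, or_false] at hj
      rcases hj with rfl | rfl | rfl | rfl
      exacts [h1, (hz 2 (by simp)).trans h1, (hz 4 (by simp)).trans h1, (hz 8 (by simp)).trans h1]
  refine mem_Q_of_frm (K := K') S' (I.mem S S' x).1 ?_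
  rw [← h0 _ (v_split _ (K.c_lt _ hx)).1, ← hβ x hx]
  exact hB x hx

/-- An isomorphism trivial on the fixed space acts on the spin module by a form. -/
theorem trivial_form : ∃ b < 64, ∀ x : ↥(HH K), (x : G) ∈ Q → K'.c (h x) = ap (alphaM b) (K.c (x : G)) := by
  classical
  have hQ : ∀ x : ↥(HH K), (x : G) ∈ Q → h x ∈ Q' := fun x hx => I.trivial_Q S S' triv hx
  choose! rep hrep hrepc using K.c_surj
  let L : ℕ → ℕ := fun v => if hv : v < 256 then K'.c (h ⟨rep v, Q_le S K (hrep v hv)⟩) else 0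
  have hL : ∀ x : ↥(HH K), (x : G) ∈ Q → K'.c (h x) = L (K.c (x : G)) := by
    intro x hx
    have hv := K.c_lt _ hx
    show _ = dite _ _ _
    rw [dif_pos hv]
    obtain ⟨d, hd⟩ := Coord.eq_of_c S K hx (hrep _ hv) (hrepc _ hv).symm
    have hx' : h x = h ⟨rep (K.c (x : G)), Q_le S K (hrep _ hv)⟩ * tw t' d := by
      rw [← I.map_tw S S' d (Q_le S K (Setup.tw_mem S d)), ← map_mul]
      exact congrArg h (Subtype.ext hd)
    rw [hx', K'.c_mul _ (hQ _ (hrep _ hv)) _ (Setup.tw_mem S' d), Coord.c_tw S' K', Nat.xor_zero]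
  have hsur : ∀ v < 256, ∃ x : ↥(HH K), (x : G) ∈ Q ∧ K.c (x : G) = v := fun v hv =>
    ⟨⟨rep v, Q_le S K (hrep v hv)⟩, hrep v hv, hrepc v hv⟩
  have Llt : ∀ v < 256, L v < 256 := fun v hv => by
    obtain ⟨x, hx, rfl⟩ := hsur v hv; rw [← hL x hx]; exact K'.c_lt _ (hQ x hx)
  have Lx : ∀ u < 256, ∀ v < 256, L (u ^^^ v) = L u ^^^ L v := fun u hu v hv => by
    obtain ⟨x, hx, rfl⟩ := hsur u hu
    obtain ⟨y, hy, rfl⟩ := hsur v hv
    rw [← K.c_mul _ hx _ hy, ← Subgroup.coe_mul, ← hL _ (mul_mem hx hy), map_mul,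
      K'.c_mul _ (hQ x hx) _ (hQ y hy), hL x hx, hL y hy]
  have Lq : ∀ v < 256, qv (L v) = qv v := fun v hv => by
    obtain ⟨x, hx, rfl⟩ := hsur v hv
    rw [← hL x hx]
    refine Setup.tw_inj S' ?_
    have hb : tw t (qv (K.c (x : G))) ∈ HH K := Q_le S K (Setup.tw_mem S _)
    rw [← K'.sq _ (hQ x hx), ← map_mul, show x * x = ⟨tw t (qv (K.c (x : G))), hb⟩ from Subtype.ext (K.sq _ hx),
      I.map_tw S S']
  have LW : ∀ v < 256, inW v = true → L v = v := fun v hv hW => by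
    obtain ⟨x, hx, rfl⟩ := hsur v hv
    rw [← hL x hx, triv x hx hW]
  have LB : ∀ u < 256, ∀ v < 256, Bv (L u) (L v) = Bv u v := fun u hu v hv => by
    have e := Lq _ (lt8 hu hv)
    rw [Lx u hu v hv] at e
    show ((qv (L u ^^^ L v) ^^ qv (L u)) ^^ qv (L v)) = ((qv (u ^^^ v) ^^ qv u) ^^ qv v)
    rw [e, Lq u hu, Lq v hv]
  have hp4 : ∀ i < 4, 2 ^ i < 16 := fun i hi => Nat.pow_lt_pow_right (m := i) (n := 4) (by norm_num) hi
  have hD : ∀ i < 4, ∃ r < 16, L (fz (2 ^ i)) = fz (2 ^ i) ^^^ ew r := by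
    intro i hi
    have hz := (fz_facts _ (hp4 i hi)).1
    have hd : L (fz (2 ^ i)) ^^^ fz (2 ^ i) < 256 := lt8 (Llt _ hz) hz
    have hW : inW (L (fz (2 ^ i)) ^^^ fz (2 ^ i)) = true := by
      refine w_perp _ hd fun k hk => ?_
      obtain ⟨hwm, hw⟩ := ew_mem (2 ^ k) (hp4 k hk)
      have e := LB _ hz _ hw
      rw [LW _ hw hwm] at e
      rw [Coord.Bv_add S K (Llt _ hz) hz hw, e, Bool.xor_self]
    obtain ⟨r, hr, er⟩ := w_enum _ hd hW
    exact ⟨r, hr, by rw [er, Nat.xor_comm (fz _), Nat.xor_assoc, Nat.xor_self, Nat.xor_zero]⟩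
  choose! r hr hrL using hD
  have c1 : ∀ i < 4, ∀ r < 16, qv (fz (2 ^ i) ^^^ ew r) = r.testBit i := by decide +kernel
  have c2 : ∀ i < 4, ∀ k < 4, ∀ r < 16, ∀ s < 16,
      Bv (fz (2 ^ i) ^^^ ew r) (fz (2 ^ k) ^^^ ew s) = (r.testBit k ^^ s.testBit i) := by
    decide +kernel
  have d0 : ∀ i < 4, (r i).testBit i = false := fun i hi => by
    rw [← c1 i hi _ (hr i hi), ← hrL i hi, Lq _ (fz_facts _ (hp4 i hi)).1, (comp_sing _ (hp4 i hi) _ (hp4 i hi)).1]
  have d1 : ∀ i < 4, ∀ k < 4, ((r i).testBit k ^^ (r k).testBit i) = false := fun i hi k hk => by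
    rw [← c2 i hi k hk _ (hr i hi) _ (hr k hk), ← hrL i hi, ← hrL k hk,
      LB _ (fz_facts _ (hp4 i hi)).1 _ (fz_facts _ (hp4 k hk)).1, (comp_sing _ (hp4 i hi) _ (hp4 k hk)).2]
  let b := bn ((r 0).testBit 2) 1 ^^^ bn ((r 0).testBit 3) 2 ^^^ bn ((r 1).testBit 2) 4 ^^^
    bn ((r 1).testBit 3) 8 ^^^ bn ((r 0).testBit 1) 16 ^^^ bn ((r 2).testBit 3) 32
  have rec4 : ∀ x < 16, x = bn (x.testBit 0) 1 ^^^ bn (x.testBit 1) 2 ^^^ bn (x.testBit 2) 4 ^^^ bn (x.testBit 3) 8 := by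
    decide +kernel
  have key : ∀ a b c d e f : Bool,
      let v := bn a 1 ^^^ bn b 2 ^^^ bn c 4 ^^^ bn d 8 ^^^ bn e 16 ^^^ bn f 32
      v < 64 ∧ frow v 0 = bn false 1 ^^^ bn e 2 ^^^ bn a 4 ^^^ bn b 8 ∧
        frow v 1 = bn e 1 ^^^ bn false 2 ^^^ bn c 4 ^^^ bn d 8 ∧
        frow v 2 = bn a 1 ^^^ bn c 2 ^^^ bn false 4 ^^^ bn f 8 ∧
        frow v 3 = bn b 1 ^^^ bn d 2 ^^^ bn f 4 ^^^ bn false 8 := by
    decide +kernel
  obtain ⟨hb, f0, f1, f2, f3⟩ := key ((r 0).testBit 2) ((r 0).testBit 3) ((r 1).testBit 2) ((r 1).testBit 3)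
    ((r 0).testBit 1) ((r 2).testBit 3)
  have sy : ∀ i < 4, ∀ k < 4, (r i).testBit k = (r k).testBit i := fun i hi k hk => by
    have := d1 i hi k hk
    revert this
    cases (r i).testBit k <;> cases (r k).testBit i <;> simp
  have hrow : ∀ i < 4, frow b i = r i := by
    intro i hi
    interval_cases i
    · rw [f0]; conv_rhs => rw [rec4 _ (hr 0 hi), d0 0 hi]
    · rw [f1]; conv_rhs => rw [rec4 _ (hr 1 hi), d0 1 hi, sy 1 hi 0 (by norm_num)]
    · rw [f2]; conv_rhs => rw [rec4 _ (hr 2 hi), d0 2 hi, sy 2 hi 0 (by norm_num), sy 2 hi 1 (by norm_num)]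
    · rw [f3]; conv_rhs => rw [rec4 _ (hr 3 hi), d0 3 hi, sy 3 hi 0 (by norm_num), sy 3 hi 1 (by norm_num),
        sy 3 hi 2 (by norm_num)]
  refine ⟨b, hb, fun x hx => ?_⟩
  rw [hL x hx]
  refine ext8 Lx (fun _ _ _ _ => ap_xor _ _ _) (fun k hk => ?_) (K.c_lt _ hx)
  have hk2 : 2 ^ k < 256 := Nat.pow_lt_pow_right (m := k) (n := 8) (by norm_num) hk
  rcases basis_cases k hk with hW | ⟨i, hi, e⟩
  · rw [LW _ hk2 hW, alpha_W b hb k hk hW]
  · rw [e, hrL i hi]
    have a := (alpha_read b hb i hi).1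
    rw [← hrow i hi, ← a]
    show fz (2 ^ i) ^^^ (ap (alphaM b) (fz (2 ^ i)) ^^^ fz (2 ^ i)) = _
    rw [Nat.xor_comm (fz _), Nat.xor_assoc, Nat.xor_self, Nat.xor_zero]

end Trivial

theorem normalised : ∃ u, Lev u ∧ ∃ g : ↥(HH K'),
    (∀ q ∈ Q', K'.c ((g : G') * q * (g : G')⁻¹) = act sX (cwW u.reverse) (K'.c q)) ∧
    ∀ e : ↥(HH K), (e : G) ∈ Q → inW (K.c (e : G)) = true →
      K'.c ((MulAut.conj (g : G')).toMonoidHom.comp h e) = K.c (e : G) := by
  obtain ⟨u, hu, eu⟩ := I.exists_lev S S'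
  obtain ⟨g, -, hg⟩ := exists_lift_lev S' K' hu.reverse
  refine ⟨u, hu, g, hg, fun e he hW => ?_⟩
  show K'.c ((g : G') * h e * (g : G')⁻¹) = _
  rw [hg _ (I.map_E S S' he hW).1, eu e he hW, L_rev hu (K.c_lt _ he)]

/-- The extraspecial subgroup goes to the extraspecial subgroup. -/
theorem map_Q {x : ↥(HH K)} (hx : (x : G) ∈ Q) : h x ∈ Q' := by
  obtain ⟨u, -, g, -, triv⟩ := I.normalised S S'
  have := Setup.na_conj S' (inv_mem g.2.1) ((I.conj S S' g.2).trivial_Q S S' triv hx)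
  rwa [show (g : G')⁻¹ * ((MulAut.conj (g : G')).toMonoidHom.comp h x) * (g : G')⁻¹⁻¹ = h x by
    show (g : G')⁻¹ * ((g : G') * h x * (g : G')⁻¹) * (g : G')⁻¹⁻¹ = _; group] at this

/-- **The classification**: a Levi element times a form. -/
theorem exists_cls : ∃ v, Cls K K' h v := by
  obtain ⟨u, hu, g, hg, triv⟩ := I.normalised S S'
  obtain ⟨b, hb, hform⟩ := (I.conj S S' g.2).trivial_form S S' triv
  refine ⟨validF b, u, hu, b, hb, rfl, fun x hx => ?_⟩
  have e := hform x hx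
  rw [show (MulAut.conj (g : G')).toMonoidHom.comp h x = (g : G') * h x * (g : G')⁻¹ from rfl,
    hg _ (I.map_Q S S' hx)] at e
  rw [← e, L_rev' hu (K'.c_lt _ (I.map_Q S S' hx))]

/-- `Q` is reached. -/
theorem Q_onto [Finite G] {y : G'} (hy : y ∈ Q') : ∃ x : ↥(HH K), (x : G) ∈ Q ∧ h x = y := by
  haveI : Finite ↥Q' := Nat.finite_of_card_ne_zero (by rw [S'.card]; norm_num)
  let f : ↥Q → ↥Q' := fun q => ⟨h ⟨q, Q_le S K q.2⟩, I.map_Q S S' (x := ⟨q, Q_le S K q.2⟩) q.2⟩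
  have hf : Function.Injective f := fun a b e =>
    Subtype.ext (congrArg (fun z : ↥(HH K) => (z : G)) (I.inj (congrArg Subtype.val e)))
  obtain ⟨q, hq⟩ := (hf.bijective_of_nat_card_le (by rw [S.card, S'.card])).2 ⟨y, hy⟩
  exact ⟨⟨q, Q_le S K q.2⟩, q.2, congrArg Subtype.val hq⟩

section Comp

variable {G'' : Type*} [Group G''] {t'' : G''} {Q'' : Subgroup G''} {K'' : Coords t'' Q''}
  {g : ↥(HH K') →* G''} (J : IsoH K' K'' g)

/-- The composite. -/
def comp (g : ↥(HH K') →* G'') : ↥(HH K) →* G'' := g.comp (h.codRestrict (HH K') (I.mem S S'))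

include J

theorem comp_iso (S'' : Setup t'' Q'') : IsoH K K'' (IsoH.comp I S S' g) where
  inj := fun x y e => I.inj (congrArg Subtype.val (J.inj e))
  range := by
    refine le_antisymm ?_ fun y hy => ?_
    · rintro _ ⟨x, rfl⟩
      exact J.mem S' S'' _
    · obtain ⟨z, rfl⟩ := (show y ∈ g.range by rw [J.range]; exact hy)
      obtain ⟨x, hx⟩ := (show (z : G') ∈ h.range by rw [I.range]; exact z.2)
      exact ⟨x, congrArg g (Subtype.ext hx)⟩
  center x hx := J.center _ (I.center x hx)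
  abel x := (J.abel _).trans (I.abel x)

/-- Classes add. -/
theorem comp_cls {v w : Bool} (hv : Cls K K' h v) (hw : Cls K' K'' g w) :
    Cls K K'' (IsoH.comp I S S' g) (v == w) := by
  obtain ⟨u, hu, b, hb, ev, eu⟩ := hv
  obtain ⟨u', hu', b', hb', ew', eu'⟩ := hw
  obtain ⟨c1, c2, -⟩ := F_act hu.reverse hb'
  refine ⟨u' ++ u, hu'.append hu, wAct cjT u.reverse b' ^^^ b, Nat.xor_lt_two_pow (n := 6) c1 hb, ?_, fun x hx => ?_⟩
  · rw [validF_xor, c2, ev, ew']
    cases v <;> cases w <;> rfl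
  · have hQ := I.map_Q S S' hx
    rw [show IsoH.comp I S S' g x = g ⟨h x, I.mem S S' x⟩ from rfl, eu' ⟨h x, I.mem S S' x⟩ hQ, eu x hx,
      cwW_append, act_append, ← alpha_comp c1 hb (K.c_lt _ hx),
      (F_act hu c1).2.2 _ (alpha_lt8 hb (K.c_lt _ hx))]
    congr 2
    have := F_rev hu.reverse hb'
    rw [List.reverse_reverse] at this
    rw [this]

end Comp

end IsoH

/-- A valid class is given by a word. -/
theorem Cls.word {v : Bool} (hc : Cls K K' h v) (hv : v = true) :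
    ∃ w, ∀ x : ↥(HH K), (x : G) ∈ Q → K'.c (h x) = act sX w (K.c (x : G)) := by
  subst hv
  obtain ⟨u, -, b, hb, hv, e⟩ := hc
  obtain ⟨w, hw⟩ := exists_form_word hb hv
  exact ⟨cwW u ++ w, fun x hx => by rw [e x hx, act_append, hw _ (K.c_lt _ hx)]⟩

end Cfsg.Agent.Co2Recog.Side
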