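import Cfsg.Agent.Lib.Co2Recog.Side.Classify

/-!
An isomorphism of valid class transports every automorphism of the extraspecial subgroup induced by the one
centraliser to one induced by the other, exactly.
-/

set_option autoImplicit false
set_option maxRecDepth 100000
set_option linter.unusedSectionVars false

noncomputable section

namespace Cfsg.Agent.Co2Recog.Side

open Equiv Subgroup
open Cfsg.Agent.ThRec.Eight (act ap ap_xor ap_zero act_xor act_zero act_append)
open Cfsg.Agent.Co2Recog.NA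

variable {G : Type*} [Group G] {t : G} {Q : Subgroup G}

/-- An element centralising `Q` is a power of the involution. -/
theorem cent_two (S : Setup t Q) (K : Coords t Q) {c : G} (hc : c ∈ centralizer {t})
    (h : ∀ q ∈ Q, c * q = q * c) : c = 1 ∨ c = t := by
  have hQ : c ∈ Q := S.self c hc h
  refine (K.c_ker c hQ).1 (nondeg _ (K.c_lt c hQ) fun k hk => ?_)
  have hk2 : 2 ^ k < 256 := Nat.pow_lt_pow_right (m := k) (n := 8) (by norm_num) hk
  obtain ⟨q, hq, e⟩ := exists_c S K hk2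
  rw [← e]
  exact Coord.bil_of S K hQ hq (h q hq)

/-- An element of the subgroup as one of the centraliser in the normaliser. -/
def qH (S : Setup t Q) (K : Coords t Q) (q : ↥Q) : ↥(HH K) := ⟨(q : G), Q_le S K q.2⟩

theorem qH_mul (S : Setup t Q) (K : Coords t Q) (p q : ↥Q) : qH S K (p * q) = qH S K p * qH S K q := rfl

variable {G' : Type*} [Group G'] {t' : G'} {Q' : Subgroup G'} {K : Coords t Q} {K' : Coords t' Q'}

/-- Two maps onto the extraspecial subgroup with the same coordinates differ by an inner automorphism. -/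
theorem exists_adjust (S' : Setup t' Q') (φ ψ : ↥Q →* G') (hφ : ∀ q, φ q ∈ Q')
    (hψ : ∀ q, ψ q ∈ Q') (hinj : Function.Injective ψ) (hon : ∀ y ∈ Q', ∃ q, ψ q = y) (hc : ∀ q, K'.c (φ q) = K'.c (ψ q))
    (htφ : ∀ q : ↥Q, (q : G) = t → φ q = t') (hψt : ∀ q : ↥Q, ψ q = t' → (q : G) = t) :
    ∃ y ∈ Q', ∀ q, φ q = y * ψ q * y⁻¹ := by
  classical
  have hrel : ∀ q, ∃ e, φ q = ψ q * tw t' e := fun q => Coord.eq_of_c S' K' (hφ q) (hψ q) (hc q)
  choose e he using hrel
  have hadd : ∀ p q, e (p * q) = (e p ^^ e q) := by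
    intro p q
    apply Setup.tw_inj S'
    have h := he (p * q)
    rw [map_mul, map_mul, he p, he q] at h
    have h2 : ψ p * tw t' (e p) * (ψ q * tw t' (e q)) = ψ p * ψ q * tw t' (e p ^^ e q) := by
      calc ψ p * tw t' (e p) * (ψ q * tw t' (e q)) = ψ p * (tw t' (e p) * ψ q) * tw t' (e q) := by group
        _ = ψ p * (ψ q * tw t' (e p)) * tw t' (e q) := by
          rw [Setup.tw_comm S' (Setup.na_comm S' (hψ q))]
        _ = _ := by rw [← Setup.tw_mul S']; group
    exact mul_left_cancel (h.symm.trans h2)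
  have h1 : e 1 = false := by
    have := hadd 1 1
    rw [one_mul, Bool.xor_self] at this
    exact this
  -- the value depends on the coordinate only
  have hwd : ∀ p q, K'.c (ψ p) = K'.c (ψ q) → e p = e q := by
    intro p q h
    obtain ⟨d, hd⟩ := Coord.eq_of_c S' K' (hψ p) (hψ q) h
    have hpq : ψ (q⁻¹ * p) = tw t' d := by rw [map_mul, map_inv, hd]; group
    have hez : e (q⁻¹ * p) = false := by
      cases d
      · rw [hinj (show ψ (q⁻¹ * p) = ψ 1 by rw [hpq, map_one]; rfl), h1]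
      · apply Setup.tw_inj S'
        have := he (q⁻¹ * p)
        rw [htφ _ (hψt _ (hpq.trans (tw_true t'))), hpq, tw_true] at this
        exact (left_eq_mul.1 this).trans (tw_false t').symm
    have := hadd q (q⁻¹ * p)
    rwa [mul_inv_cancel_left, hez, Bool.xor_false] at this
  have hon' : ∀ v < 256, ∃ q, K'.c (ψ q) = v := fun v hv => by
    obtain ⟨y, hy, ey⟩ := exists_c S' K' hv
    obtain ⟨q, rfl⟩ := hon y hy
    exact ⟨q, ey⟩
  choose! pre hpre using hon'
  let l := (List.range 8).foldr (fun k m => Nat.xor (bn (e (pre (2 ^ k))) (2 ^ k)) m) 0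
  have hl : l < 256 ∧ ∀ k < 8, l.testBit k = e (pre (2 ^ k)) := by
    have key : ∀ b0 b1 b2 b3 b4 b5 b6 b7 : Bool,
        let v := Nat.xor (bn b0 1) (Nat.xor (bn b1 2) (Nat.xor (bn b2 4) (Nat.xor (bn b3 8) (Nat.xor (bn b4 16)
          (Nat.xor (bn b5 32) (Nat.xor (bn b6 64) (Nat.xor (bn b7 128) 0)))))))
        v < 256 ∧ v.testBit 0 = b0 ∧ v.testBit 1 = b1 ∧ v.testBit 2 = b2 ∧ v.testBit 3 = b3 ∧
          v.testBit 4 = b4 ∧ v.testBit 5 = b5 ∧ v.testBit 6 = b6 ∧ v.testBit 7 = b7 := by decide +kernel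
    obtain ⟨hv, g0, g1, g2, g3, g4, g5, g6, g7⟩ := key (e (pre (2 ^ 0))) (e (pre (2 ^ 1))) (e (pre (2 ^ 2)))
      (e (pre (2 ^ 3))) (e (pre (2 ^ 4))) (e (pre (2 ^ 5))) (e (pre (2 ^ 6))) (e (pre (2 ^ 7)))
    refine ⟨hv, fun k hk => ?_⟩
    interval_cases k
    exacts [g0, g1, g2, g3, g4, g5, g6, g7]
  obtain ⟨u, hu, hub⟩ := dual8 l hl.1
  obtain ⟨y, hy, hyc⟩ := exists_c S' K' hu
  have key : ∀ v < 256, bn (e (pre v)) 1 = bn (Bv u v) 1 := by
    intro v hv
    refine ext8 (f := fun v => bn (e (pre v)) 1) (g := fun v => bn (Bv u v) 1) ?_ ?_ (fun k hk => ?_) hv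
    · intro a ha b hb
      show bn _ 1 = bn _ 1 ^^^ bn _ 1
      rw [← bn_xor, ← hadd]
      congr 1
      refine hwd _ _ ?_
      rw [map_mul, K'.c_mul _ (hψ _) _ (hψ _), hpre a ha, hpre b hb, hpre _ (lt8 ha hb)]
    · intro a ha b hb
      show bn _ 1 = bn _ 1 ^^^ bn _ 1
      rw [← bn_xor]
      congr 1
      have sym : ∀ p r : ℕ, Bv p r = Bv r p := fun p r => by
        simp only [Bv, show Nat.xor p r = Nat.xor r p from Nat.xor_comm p r]
        cases qv (Nat.xor r p) <;> cases qv r <;> cases qv p <;> rfl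
      rw [sym, Coord.Bv_add S' K' ha hb hu, sym a, sym b]
    · show bn _ 1 = bn _ 1
      rw [hub k hk, hl.2 k hk]
  refine ⟨y, hy, fun q => ?_⟩
  have hv := K'.c_lt _ (hψ q)
  have e1 := key _ hv
  rw [hwd _ q (hpre _ hv)] at e1
  have e2 : e q = Bv u (K'.c (ψ q)) := by
    revert e1
    cases e q <;> cases Bv u (K'.c (ψ q)) <;> simp [bn]
  rw [he q, e2, Coord.rule S' K' hy (hψ q), hyc]

namespace IsoH

variable {h : ↥(HH K) →* G'}

set_option linter.unusedVariables false in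
/-- The map on `Q`. -/
def onQ (I : IsoH K K' h) (S : Setup t Q) (S' : Setup t' Q') : ↥Q →* G' :=
  MonoidHom.mk' (fun q => h (qH S K q)) fun p q => by rw [qH_mul, map_mul]

variable (I : IsoH K K' h) (S : Setup t Q) (S' : Setup t' Q')
include I S S'

theorem onQ_inj : Function.Injective (I.onQ S S') := fun _ _ e =>
  Subtype.ext (congrArg (fun z : ↥(HH K) => (z : G)) (I.inj e))

theorem onQ_mem (q : ↥Q) : I.onQ S S' q ∈ Q' := I.map_Q S S' (x := qH S K q) q.2

theorem onQ_onto [Finite G] {y : G'} (hy : y ∈ Q') : ∃ q, I.onQ S S' q = y := by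
  obtain ⟨x, hx, e⟩ := I.Q_onto S S' hy
  exact ⟨⟨x, hx⟩, e⟩

theorem onQ_t (q : ↥Q) : I.onQ S S' q = t' ↔ (q : G) = t := by
  refine ⟨fun e => ?_, fun e => I.center (qH S K q) e⟩
  have := I.inj (e.trans (I.map_t S S' (ht := Q_le S K (Setup.na_mem S))).symm)
  exact congrArg (fun z : ↥(HH K) => (z : G)) this

/-- **Transport**: an automorphism induced in the one centraliser is induced in the other. -/
theorem exists_lift [Finite G] (hc : Cls K K' h true) {m : G} (hm : m ∈ centralizer {t}) :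
    ∃ c ∈ centralizer {t'}, ∀ q : ↥Q,
      I.onQ S S' ⟨m * (q : G) * m⁻¹, Setup.na_conj S hm q.2⟩ = c * I.onQ S S' q * c⁻¹ := by
  obtain ⟨w, hw⟩ := hc.word rfl
  obtain ⟨wm, hwm⟩ := Co2Recog.exists_word (p := K.π ⟨m, hm⟩) (by rw [← K.range]; exact ⟨_, rfl⟩)
  obtain ⟨⟨c0, hc0⟩, ec⟩ := exists_lift_word S' K' (w ++ (wm ++ w.reverse))
  let cm : ↥Q →* ↥Q := MonoidHom.mk' (fun q => ⟨m * (q : G) * m⁻¹, Setup.na_conj S hm q.2⟩) fun p q =>
    Subtype.ext (by show m * ((p : G) * q) * m⁻¹ = m * p * m⁻¹ * (m * q * m⁻¹); group)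
  let φ : ↥Q →* G' := (I.onQ S S').comp cm
  let ψ : ↥Q →* G' := (MulAut.conj c0).toMonoidHom.comp (I.onQ S S')
  have hψ : ∀ q, ψ q ∈ Q' := fun q => Setup.na_conj S' hc0 (I.onQ_mem S S' q)
  have hval : ∀ q : ↥Q, ψ q = c0 * I.onQ S S' q * c0⁻¹ := fun q => rfl
  obtain ⟨y, hy, hy'⟩ := exists_adjust (K' := K') S' φ ψ (fun q => I.onQ_mem S S' _) hψ
    ((MulAut.conj c0).injective.comp (I.onQ_inj S S'))
    (fun z hz => by
      have h1 := Setup.na_conj S' (inv_mem hc0) hz
      obtain ⟨q, hq⟩ := I.onQ_onto S S' h1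
      exact ⟨q, by rw [hval, hq]; group⟩)
    (fun q => by
      show K'.c (h (qH S K (cm q))) = K'.c (c0 * h (qH S K q) * c0⁻¹)
      rw [K'.act ⟨c0, hc0⟩ _ ec.symm _ (I.map_Q S S' (x := qH S K q) q.2), hw (qH S K q) q.2,
        hw (qH S K (cm q)) (cm q).2]
      show act sX w (K.c (m * (q : G) * m⁻¹)) = act sX (w ++ (wm ++ w.reverse)) (act sX w (K.c (q : G)))
      rw [K.act ⟨m, hm⟩ wm hwm _ q.2, act_append, act_append, act_reverse w (K.c_lt _ q.2)])
    (fun q e => by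
      refine (I.onQ_t S S' (cm q)).2 ?_
      show m * (q : G) * m⁻¹ = t
      rw [e, mem_centralizer_singleton_iff.1 hm, mul_inv_cancel_right])
    fun q e => by
      rw [hval] at e
      refine (I.onQ_t S S' q).1 ?_
      calc I.onQ S S' q = c0⁻¹ * (c0 * I.onQ S S' q * c0⁻¹) * c0 := by group
        _ = c0⁻¹ * t' * c0 := by rw [e]
        _ = t' := by rw [mem_centralizer_singleton_iff.1 (inv_mem hc0), inv_mul_cancel_right]
  refine ⟨y * c0, mul_mem (S'.le hy) hc0, fun q => ?_⟩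
  rw [show I.onQ S S' ⟨m * (q : G) * m⁻¹, Setup.na_conj S hm q.2⟩ = φ q from rfl, hy' q, hval]
  group

end IsoH

/-- An automorphism of valid class is induced by an element. -/
theorem self_inner [Finite G] {h : ↥(HH K) →* G} (I : IsoH K K h) (S : Setup t Q) (hc : Cls K K h true) :
    ∃ c ∈ centralizer {t}, ∀ q : ↥Q, h (qH S K q) = c * (q : G) * c⁻¹ := by
  obtain ⟨w, hw⟩ := hc.word rfl
  obtain ⟨⟨c0, hc0⟩, ec⟩ := exists_lift_word S K w
  obtain ⟨y, hy, hy'⟩ := exists_adjust (K' := K) S (I.onQ S S)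
    ((MulAut.conj c0).toMonoidHom.comp Q.subtype) (I.onQ_mem S S) (fun q => Setup.na_conj S hc0 q.2)
    ((MulAut.conj c0).injective.comp Subtype.val_injective)
    (fun z hz => ⟨⟨c0⁻¹ * z * c0, by
      have := Setup.na_conj S (inv_mem hc0) hz
      rwa [inv_inv] at this⟩, by
      show c0 * (c0⁻¹ * z * c0) * c0⁻¹ = z
      group⟩)
    (fun q => by
      show K.c (h (qH S K q)) = K.c (c0 * (q : G) * c0⁻¹)
      rw [K.act ⟨c0, hc0⟩ w ec.symm _ q.2]
      exact hw (qH S K q) q.2)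
    (fun q e => (I.onQ_t S S q).2 e) fun q e => by
      change c0 * (q : G) * c0⁻¹ = t at e
      calc (q : G) = c0⁻¹ * (c0 * (q : G) * c0⁻¹) * c0 := by group
        _ = c0⁻¹ * t * c0 := by rw [e]
        _ = t := by rw [mem_centralizer_singleton_iff.1 (inv_mem hc0), inv_mul_cancel_right]
  refine ⟨y * c0, mul_mem (S.le hy) hc0, fun q => ?_⟩
  rw [show h (qH S K q) = I.onQ S S q from rfl, hy' q]
  show y * (c0 * (q : G) * c0⁻¹) * y⁻¹ = _
  group

end Cfsg.Agent.Co2Recog.Side
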