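import Cfsg.Agent.Lib.Co2Recog.Side.ModelCoords
import Cfsg.Agent.Lib.Co2Recog.Side.Transfer

/-!
The outer automorphism of the monomial part of the model: conjugation by a sign change separating the pair,
corrected by the sign of the action on the pair. Its class is invalid.
-/

set_option autoImplicit false
set_option maxRecDepth 20000
set_option linter.unusedSectionVars false

noncomputable section

namespace Cfsg.Agent.Co2Recog.Side

open Cfsg Cfsg.Agent.Golay Cfsg.Agent.Leech Cfsg.Agent.PermCert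
open Cfsg.Agent.Co2Recog.NA
open Cfsg.Agent.Co2Recog.Layers (incl2 N2 liftU incl2_lift incl2_fix)
open Cfsg.Agent.Co2Graph (C2 mem_C2 incl2_t2)
open scoped Pointwise

/-- The word separating the pair. -/
def dW : ℕ := 5279

theorem dW_checks : inCode dW = true ∧ dW.testBit 0 = true ∧ dW.testBit 23 = false := by decide +kernel

/-- The sign change separating the pair. -/
def dD : Co0 := Leech.diag ⟨ofMask dW, ofMask_mem_golayCode dW_checks.1⟩

/-- The second vector. -/
def u' : leechLattice := dD • Spor.leechU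

theorem diag_sq (c : golayCode) : Leech.diag c * Leech.diag c = 1 := by
  rw [← Leech.diag_add, show c + c = 0 from Subtype.ext (funext fun _ => CharTwo.add_self_eq_zero _),
    Leech.diag_zero]

theorem dD_sq : dD * dD = 1 := diag_sq _

theorem dD_comm (c : golayCode) : dD * Leech.diag c = Leech.diag c * dD := by
  rw [dD, ← Leech.diag_add, ← Leech.diag_add, add_comm]

theorem neg_comm (g : Co0) : negCo0 * g = g * negCo0 :=
  (Subgroup.mem_center_iff.1 (Leech.mem_center_iff.2 (Or.inr rfl)) g).symm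

theorem dD_u' : dD • u' = Spor.leechU := by rw [u', ← mul_smul, dD_sq, one_smul]

theorem u'_val (p : GolayPt) :
    (u' : GolayPt → ℤ) p = sgn (ofMask dW) p * Spor.vecU p := Edge.diag_apply _ _ _

theorem pair_vals : Spor.vecU none = 4 ∧ Spor.vecU (some 0) = 4 ∧ sgn (ofMask dW) none = 1 ∧
    sgn (ofMask dW) (some 0) = -1 := by
  refine ⟨rfl, rfl, ?_, ?_⟩
  · simp [sgn, ofMask, Layers.idx_pair.1, dW_checks.2.2]
  · simp [sgn, ofMask, Layers.idx_pair.2, dW_checks.2.1]

theorem u'_ne : u' ≠ Spor.leechU ∧ u' ≠ -Spor.leechU := by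
  obtain ⟨h1, h2, h3, h4⟩ := pair_vals
  constructor <;> intro e
  · have := congrFun (congrArg Subtype.val e) (some 0)
    rw [u'_val, h4, h2] at this
    change -1 * 4 = Spor.vecU (some 0) at this
    rw [h2] at this
    norm_num at this
  · have := congrFun (congrArg Subtype.val e) none
    rw [u'_val, h3, h1] at this
    change 1 * 4 = -Spor.vecU none at this
    rw [h1] at this
    norm_num at this

theorem u'_ne_neg : u' ≠ -u' := fun e => by
  have := congrFun (congrArg Subtype.val e) none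
  change (u' : GolayPt → ℤ) none = -(u' : GolayPt → ℤ) none at this
  rw [u'_val, pair_vals.1, pair_vals.2.2.1] at this
  norm_num at this

/-- A monomial element fixing the vector keeps the second one up to sign. -/
theorem u'_cases {n : ↥Spor.Co2} (hn : n ∈ N2) : incl2 n • u' = u' ∨ incl2 n • u' = -u' := by
  let a := pairOf ⟨incl2 n, hn⟩
  have ha : incl2 n = mono a := (mono_pairOf ⟨incl2 n, hn⟩).symm
  set σ := (a.1 : Equiv.Perm GolayPt) with hσ
  have hu : ∀ p, sgn (a.2 : GolayPt → ZMod 2) p * Spor.vecU (σ.symm p) = Spor.vecU p := fun p => by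
    have h := congrFun (congrArg Subtype.val (incl2_fix n)) p
    rw [ha, mono_smul] at h
    exact h
  have hv : ∀ p, ((incl2 n • u' : leechLattice) : GolayPt → ℤ) p =
      sgn (ofMask dW) (σ.symm p) * Spor.vecU p := fun p => by
    rw [ha, mono_smul]
    show sgn (a.2 : GolayPt → ZMod 2) p * (u' : GolayPt → ℤ) (σ.symm p) = _
    rw [u'_val, ← hu p]
    ring
  obtain ⟨h1, h2, h3, h4⟩ := pair_vals
  have hout : ∀ p, (p = none ∨ p = some 0) → σ.symm p = none ∨ σ.symm p = some 0 := by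
    intro p hp
    by_contra h
    push Not at h
    have := hu p
    rw [Layers.vecU_outside _ h.1 h.2, mul_zero] at this
    rcases hp with rfl | rfl
    · rw [h1] at this; norm_num at this
    · rw [h2] at this; norm_num at this
  have hne : σ.symm none ≠ σ.symm (some 0) := fun e => Option.some_ne_none (0 : ZMod 23) (σ.symm.injective e).symm
  rcases hout none (Or.inl rfl) with e0 | e0
  · left
    have e1 : σ.symm (some 0) = some 0 := (hout _ (Or.inr rfl)).resolve_left fun e => hne (e0.trans e.symm)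
    refine Subtype.ext (funext fun p => ?_)
    rw [hv, u'_val]
    by_cases p0 : p = none
    · rw [p0, e0]
    by_cases p1 : p = some 0
    · rw [p1, e1]
    rw [Layers.vecU_outside p p0 p1, mul_zero, mul_zero]
  · right
    have e1 : σ.symm (some 0) = none := (hout _ (Or.inr rfl)).resolve_right fun e => hne (e0.trans e.symm)
    refine Subtype.ext (funext fun p => ?_)
    show _ = -(u' : GolayPt → ℤ) p
    rw [hv, u'_val]
    by_cases p0 : p = none
    · rw [p0, e0, h3, h4]; ring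
    by_cases p1 : p = some 0
    · rw [p1, e1, h3, h4]; ring
    rw [Layers.vecU_outside p p0 p1, mul_zero, mul_zero, neg_zero]

open Classical in
/-- The sign of the action on the pair. -/
def chi (n : ↥Spor.Co2) : Co0 := if incl2 n • u' = u' then 1 else negCo0

theorem negCo0_sq : negCo0 * negCo0 = 1 := diag_sq _

theorem chi_sq (n : ↥Spor.Co2) : chi n * chi n = 1 := by
  unfold chi; split_ifs
  · exact one_mul 1
  · exact negCo0_sq

theorem chi_comm (n : ↥Spor.Co2) (g : Co0) : chi n * g = g * chi n := by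
  unfold chi; split_ifs
  · rw [one_mul, mul_one]
  · exact neg_comm g

theorem chi_smul {n : ↥Spor.Co2} (hn : n ∈ N2) : incl2 n • u' = chi n • u' := by
  unfold chi; split_ifs with h
  · rw [one_smul, h]
  · rw [negCo0_smul, (u'_cases hn).resolve_left h]

theorem chi_mem (n : ↥Spor.Co2) : chi n ∈ crossStab := by
  unfold chi; split_ifs
  · exact one_mem _
  · exact mono_mem _

theorem chi_eq {n m : ↥Spor.Co2} (h : chi n • u' = chi m • u') : chi n = chi m := by
  unfold chi at *
  split_ifs at * <;> first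
    | rfl
    | (simp only [one_smul, negCo0_smul] at h; exact absurd h u'_ne_neg)
    | (simp only [one_smul, negCo0_smul] at h; exact absurd h.symm u'_ne_neg)

theorem chi_mul {n m : ↥Spor.Co2} (hn : n ∈ N2) (hm : m ∈ N2) : chi (n * m) = chi n * chi m := by
  have h : chi (n * m) • u' = (chi n * chi m) • u' := by
    rw [← chi_smul (mul_mem hn hm), map_mul, mul_smul, chi_smul hm, ← mul_smul, ← chi_comm, mul_smul,
      chi_smul hn, ← mul_smul, chi_comm]
  have hs : chi n * chi m = 1 ∨ chi n * chi m = negCo0 := by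
    unfold chi; split_ifs
    · exact Or.inl (one_mul _)
    · exact Or.inr (one_mul _)
    · exact Or.inr (mul_one _)
    · exact Or.inl negCo0_sq
  rcases hs with e | e <;> rw [e] at h ⊢ <;> unfold chi at * <;> split_ifs at * <;> first
    | rfl
    | (simp only [one_smul, negCo0_smul] at h; exact absurd h u'_ne_neg)
    | (simp only [one_smul, negCo0_smul] at h; exact absurd h.symm u'_ne_neg)

theorem chi_one {n : ↥Spor.Co2} (h : incl2 n • u' = u') : chi n = 1 := by
  unfold chi; rw [if_pos h]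

/-- The value of the automorphism. -/
def dVal (n : ↥Spor.Co2) : Co0 := dD * incl2 n * dD * chi n

theorem dVal_fix {n : ↥Spor.Co2} (hn : n ∈ N2) : dVal n • Spor.leechU = Spor.leechU := by
  rw [dVal, ← chi_comm n, mul_smul, mul_smul, mul_smul, show dD • Spor.leechU = u' from rfl, chi_smul hn,
    ← mul_smul dD, ← chi_comm n dD, mul_smul, dD_u', ← mul_smul, chi_sq, one_smul]

theorem dVal_cross {n : ↥Spor.Co2} (hn : n ∈ N2) : dVal n ∈ crossStab :=
  mul_mem (mul_mem (mul_mem (mono_mem _) hn) (mono_mem _)) (chi_mem n)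

theorem dVal_mul {n m : ↥Spor.Co2} (hn : n ∈ N2) (hm : m ∈ N2) : dVal (n * m) = dVal n * dVal m := by
  simp only [dVal, map_mul, chi_mul hn hm]
  calc dD * (incl2 n * incl2 m) * dD * (chi n * chi m)
      = dD * incl2 n * (dD * dD) * incl2 m * dD * (chi n * chi m) := by rw [dD_sq, mul_one]; group
    _ = dD * incl2 n * dD * (dD * incl2 m * dD * chi n) * chi m := by group
    _ = dD * incl2 n * dD * (chi n * (dD * incl2 m * dD)) * chi m := by rw [chi_comm]
    _ = _ := by group

/-- **The outer automorphism of the monomial part.** -/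
def delta : ↥N2 →* ↥N2 :=
  MonoidHom.mk' (fun n => ⟨liftU (dVal n) (dVal_fix n.2), by
    show incl2 _ ∈ crossStab
    rw [incl2_lift]
    exact dVal_cross n.2⟩) fun n m => Subtype.ext (incl2_injective (by
      show dVal ((n : ↥Spor.Co2) * m) = incl2 (liftU _ (dVal_fix n.2) * liftU _ (dVal_fix m.2))
      rw [map_mul, incl2_lift, incl2_lift, dVal_mul n.2 m.2]))

theorem delta_val (n : ↥N2) : incl2 ((delta n : ↥N2) : ↥Spor.Co2) = dD * incl2 n * dD * chi n := rfl

theorem delta_inj : Function.Injective delta := by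
  refine (injective_iff_map_eq_one _).2 fun n h => Subtype.ext (incl2_injective ?_)
  have e := delta_val n
  rw [h, Subgroup.coe_one, map_one, eq_comm, mul_eq_one_iff_eq_inv] at e
  have e2 : incl2 (n : ↥Spor.Co2) = (chi n)⁻¹ := by
    calc incl2 (n : ↥Spor.Co2) = dD * (dD * incl2 n * dD) * dD := by
          rw [show dD * (dD * incl2 (n : ↥Spor.Co2) * dD) * dD = dD * dD * incl2 n * (dD * dD) by group,
            dD_sq, one_mul, mul_one]
      _ = dD * (chi n)⁻¹ * dD := by rw [e]
      _ = _ := by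
        rw [inv_eq_of_mul_eq_one_right (chi_sq n), ← chi_comm, mul_assoc, dD_sq, mul_one]
  rw [inv_eq_of_mul_eq_one_right (chi_sq n)] at e2
  rw [Subgroup.coe_one, map_one, e2]
  unfold chi
  split_ifs with hk
  · rfl
  · exfalso
    have := incl2_fix (n : ↥Spor.Co2)
    rw [e2] at this
    unfold chi at this
    rw [if_neg hk, negCo0_smul] at this
    have := congrFun (congrArg Subtype.val this) none
    change -Spor.vecU none = Spor.vecU none at this
    rw [pair_vals.1] at this
    norm_num at this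

theorem chi_diag {x : ↥Spor.Co2} (hx : x ∈ A2) : chi x = 1 := by
  obtain ⟨c, hc⟩ := hx
  refine chi_one ?_
  have := incl2_fix x
  rw [hc] at this
  rw [hc, u', ← mul_smul, ← dD_comm, mul_smul, this]

theorem delta_A2 (n : ↥N2) : ((delta n : ↥N2) : ↥Spor.Co2) ∈ A2 ↔ (n : ↥Spor.Co2) ∈ A2 := by
  constructor
  · rintro ⟨c, hc⟩
    rw [delta_val] at hc
    have e : incl2 (n : ↥Spor.Co2) = Leech.diag c * chi n := by
      calc incl2 (n : ↥Spor.Co2) = dD * (dD * incl2 n * dD * chi n) * chi n * dD := by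
            rw [show dD * (dD * incl2 (n : ↥Spor.Co2) * dD * chi n) * chi n * dD =
              dD * dD * incl2 n * dD * (chi n * chi n) * dD by group, chi_sq, dD_sq, one_mul, mul_one, mul_assoc,
              dD_sq, mul_one]
        _ = _ := by
          rw [hc, dD_comm, mul_assoc (Leech.diag c), ← chi_comm, mul_assoc, mul_assoc, dD_sq, mul_one]
    unfold chi at e
    split_ifs at e
    · exact ⟨c, by rw [e, mul_one]⟩
    · exact ⟨c + ⟨1, one_mem_code⟩, by rw [e, Leech.diag_add]; rfl⟩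
  · intro h
    obtain ⟨c, hc⟩ := id h
    refine ⟨c, ?_⟩
    rw [delta_val, chi_diag h, mul_one, hc, mul_assoc, ← dD_comm, ← mul_assoc, dD_sq, one_mul]

theorem delta_C2 {n : ↥N2} (h : (n : ↥Spor.Co2) ∈ C2) : ((delta n : ↥N2) : ↥Spor.Co2) ∈ C2 := by
  refine mem_C2.2 ?_
  rw [delta_val]
  have hD : dD ∈ E8Cent.Cc := E8Cent.mem_Cc.2 (dD_comm E8Cent.xWord)
  exact mul_mem (mul_mem (mul_mem hD (mem_C2.1 h)) hD) (E8Cent.mem_Cc.2 (chi_comm _ _))

theorem delta_t2 (h : E8Cent.t2 ∈ N2) : ((delta ⟨E8Cent.t2, h⟩ : ↥N2) : ↥Spor.Co2) = E8Cent.t2 := by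
  refine incl2_injective ?_
  rw [delta_val, chi_diag t2_A2, mul_one, incl2_t2,
    show E8Cent.t0 = Leech.diag E8Cent.xWord from rfl, mul_assoc, ← dD_comm, ← mul_assoc, dD_sq, one_mul]

theorem chi_Q2 {x : ↥Spor.Co2} (hx : x ∈ Q2) : chi x = 1 := by
  obtain ⟨g, hg, e⟩ := mem_Q2.1 hx
  refine chi_one ?_
  let m : ↥E8Cent.Cc := ⟨dD, E8Cent.mem_Cc.2 (dD_comm E8Cent.xWord)⟩
  rw [← e, u', ← E8Cent.rootV_uF, show dD • E8Cent.rootV E8Cent.uF = E8Cent.rootV (E8Cent.rho m E8Cent.uF) from
    (E8Cent.rho_spec m _).symm, ← E8Cent.rho_spec, MonoidHom.mem_ker.1 hg]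
  rfl

/-- The restriction to the centraliser in the normaliser. -/
def deltaH : ↥(HH K2) →* ↥Spor.Co2 :=
  (N2.subtype.comp delta).comp (Subgroup.inclusion (show HH K2 ≤ N2 by rw [HH_K2]; exact inf_le_left))

theorem deltaH_apply (x : ↥(HH K2)) (hx : (x : ↥Spor.Co2) ∈ N2) :
    deltaH x = ((delta ⟨(x : ↥Spor.Co2), hx⟩ : ↥N2) : ↥Spor.Co2) := rfl

theorem deltaH_iso : IsoH K2 K2 deltaH := by
  have := Co2Graph.finite_Co2
  have hH : ∀ x : ↥(HH K2), (x : ↥Spor.Co2) ∈ N2 ⊓ C2 := fun x => HH_K2 ▸ x.2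
  have hinj : Function.Injective deltaH := fun x y e => Subtype.ext
    (congrArg (fun z : ↥N2 => (z : ↥Spor.Co2)) (delta_inj (Subtype.ext e :
      delta ⟨(x : ↥Spor.Co2), (hH x).1⟩ = delta ⟨(y : ↥Spor.Co2), (hH y).1⟩)))
  refine ⟨hinj, ?_, fun x hx => ?_, fun x => ?_⟩
  · refine Subgroup.eq_of_le_of_card_ge ?_ (le_of_eq (Nat.card_congr (MonoidHom.ofInjective hinj).toEquiv))
    rintro _ ⟨x, rfl⟩
    refine (SetLike.ext_iff.1 HH_K2 _).2 ?_
    exact ⟨(delta ⟨(x : ↥Spor.Co2), (hH x).1⟩).2, delta_C2 (n := ⟨(x : ↥Spor.Co2), (hH x).1⟩) (hH x).2⟩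
  · rw [deltaH_apply x (hH x).1]
    have ht : E8Cent.t2 ∈ N2 := A2_le_N2 t2_A2
    rw [show (⟨(x : ↥Spor.Co2), (hH x).1⟩ : ↥N2) = ⟨E8Cent.t2, ht⟩ from Subtype.ext hx]
    exact delta_t2 ht
  · rw [AA_K2, deltaH_apply x (hH x).1]
    exact delta_A2 _

/-- **The class of the outer automorphism is invalid.** -/
theorem deltaH_class : Cls K2 K2 deltaH false := by
  have := Co2Graph.finite_Co2
  obtain ⟨v, hv⟩ := deltaH_iso.exists_cls setup2 setup2
  cases v
  · exact hv
  exfalso
  obtain ⟨c, hc, hq⟩ := self_inner deltaH_iso setup2 hv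
  let m : ↥E8Cent.Cc := ⟨incl2 c, mem_C2.1 hc⟩
  let d : ↥E8Cent.Cc := ⟨dD, E8Cent.mem_Cc.2 (dD_comm E8Cent.xWord)⟩
  have hn : E8Cent.phiC (m⁻¹ * d) ∈ Subgroup.centralizer (E8Cent.Q1 : Set E8Cent.C1) := by
    refine Subgroup.mem_centralizer_iff.2 fun q hqQ => ?_
    obtain ⟨g, hg, rfl⟩ := hqQ
    rw [← map_mul, ← map_mul]
    congr 1
    let x : ↥Q2 := equivKer.symm ⟨g, hg⟩
    have h := congrArg incl2 (hq x)
    rw [deltaH_apply (qH setup2 K2 x) (Q2_le_N2 x.2), delta_val, map_mul, map_mul, map_inv,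
      show ((qH setup2 K2 x : ↥(HH K2)) : ↥Spor.Co2) = (x : ↥Spor.Co2) from rfl] at h
    rw [chi_Q2 x.2, mul_one, show incl2 (x : ↥Spor.Co2) = ((g : ↥E8Cent.Cc) : Co0) from rfl] at h
    refine Subtype.ext ?_
    show ((g : ↥E8Cent.Cc) : Co0) * ((incl2 c)⁻¹ * dD) = (incl2 c)⁻¹ * dD * ((g : ↥E8Cent.Cc) : Co0)
    calc ((g : ↥E8Cent.Cc) : Co0) * ((incl2 c)⁻¹ * dD)
        = (incl2 c)⁻¹ * (incl2 c * (g : ↥E8Cent.Cc) * (incl2 c)⁻¹) * dD := by group
      _ = (incl2 c)⁻¹ * (dD * (g : ↥E8Cent.Cc) * dD) * dD := by rw [h]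
      _ = (incl2 c)⁻¹ * dD * (g : ↥E8Cent.Cc) * (dD * dD) := by group
      _ = _ := by rw [dD_sq, mul_one]
  obtain ⟨k, hk, ek⟩ := E8Cent.centralizer_Q1 hn
  have hd : E8Cent.rho d E8Cent.uF = E8Cent.rho m (E8Cent.rho (m⁻¹ * d) E8Cent.uF) := by
    rw [← Equiv.Perm.mul_apply, ← map_mul, mul_inv_cancel_left]
  have hmu : E8Cent.rho m E8Cent.uF = E8Cent.uF := E8Cent.rootV_inj (by
    rw [E8Cent.rho_spec, E8Cent.rootV_uF]; exact incl2_fix c)
  have hdu : E8Cent.rootV (E8Cent.rho d E8Cent.uF) = u' := by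
    rw [E8Cent.rho_spec, E8Cent.rootV_uF]; rfl
  rcases E8Cent.phiC_eq.1 ek with e | e
  · rw [e, MonoidHom.mem_ker.1 hk, Equiv.Perm.one_apply, hmu] at hd
    exact u'_ne.1 (by rw [← hdu, hd, E8Cent.rootV_uF])
  · rw [e, map_mul, MonoidHom.mem_ker.1 hk, one_mul, E8Cent.negC_rho, E8Cent.rho_negF, hmu] at hd
    exact u'_ne.2 (by rw [← hdu, hd, E8Cent.rootV_negF, E8Cent.rootV_uF])

end Cfsg.Agent.Co2Recog.Side
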