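import Cfsg.Agent.Lib.Co2Recog.Side.Classify

/-!
A homomorphism of exponent two from the centraliser in the normaliser is decided by its value on one Levi
generator.
-/

set_option autoImplicit false
set_option maxRecDepth 100000
set_option linter.unusedSectionVars false

noncomputable section

namespace Cfsg.Agent.Co2Recog.Side

open Equiv Subgroup
open Cfsg.Agent.ThRec.Eight (act ap ap_xor ap_zero act_xor act_zero act_append)
open Cfsg.Agent.Co2Recog.NA

theorem conj_act : ∀ j < 5, (∀ i ∈ conjU.getD j [], i < 5) ∧ ∀ k < 8,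
    act sX (cwW (conjU.getD j [] ++ 0 :: (conjU.getD j []).reverse)) (2 ^ k) = act sX (cw j) (2 ^ k) := by
  decide +kernel

theorem v_comm : ∀ k < 8, ∃ p ∈ vBas, p.1 < 5 ∧ p.2 < 8 ∧ act sX (cw p.1) (2 ^ p.2) ^^^ 2 ^ p.2 = 2 ^ k := by
  decide +kernel

theorem u_comm : ∀ c ∈ [49, 50, 51, 52, 56], ∃ p ∈ uBas, p.1 < 5 ∧ p.2 < 64 ∧ validF p.2 = true ∧
    ap (cjT.getD p.1 []) p.2 ^^^ p.2 = c := by
  decide +kernel

theorem lev_one {j : ℕ} (hj : j < 5) : Lev [j] := fun x hx => by rw [List.mem_singleton.1 hx]; exact hj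

theorem cwW_one (j : ℕ) : cwW [j] = cw j := by simp [cwW]

variable {G : Type*} [Group G] {t : G} {Q : Subgroup G} (S : Setup t Q) (K : Coords t Q)
include S K

/-- The extraspecial subgroup is in the kernel. -/
theorem hom_Q {M : Type*} [Group M] (η : ↥(HH K) →* M) (hc : ∀ x y, η x * η y = η y * η x)
    {x : ↥(HH K)} (hx : (x : G) ∈ Q) : η x = 1 := by
  classical
  have hconj : ∀ g y : ↥(HH K), η (g * y * g⁻¹) = η y := fun g y => by
    rw [map_mul, map_mul, map_inv, hc, mul_inv_cancel_right]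
  have hcomm : ∀ g y : ↥(HH K), η (g * y * g⁻¹ * y⁻¹) = 1 := fun g y => by
    rw [map_mul, hconj, map_inv, mul_inv_cancel]
  have htH : t ∈ HH K := Q_le S K (Setup.na_mem S)
  have ht : η ⟨t, htH⟩ = 1 := by
    obtain ⟨q, hq, eq⟩ := exists_c S K (show ew 1 < 256 from (ew_mem 1 (by norm_num)).2)
    obtain ⟨r, hr, er⟩ := exists_c S K (show fz 1 < 256 from (fz_facts 1 (by norm_num)).1)
    have e : q * r * q⁻¹ = r * t := by
      rw [Coord.rule S K hq hr, eq, er, show Bv (ew 1) (fz 1) = true by decide +kernel]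
      rfl
    have := hconj ⟨q, Q_le S K hq⟩ ⟨r, Q_le S K hr⟩
    rw [show (⟨q, Q_le S K hq⟩ : ↥(HH K)) * ⟨r, Q_le S K hr⟩ * ⟨q, Q_le S K hq⟩⁻¹ =
      ⟨r, Q_le S K hr⟩ * ⟨t, htH⟩ from Subtype.ext e, map_mul] at this
    exact mul_eq_left.1 this
  have hsame : ∀ y y' : ↥(HH K), (y : G) ∈ Q → (y' : G) ∈ Q → K.c (y : G) = K.c (y' : G) → η y = η y' := by
    intro y y' hy hy' e
    obtain ⟨d, hd⟩ := Coord.eq_of_c S K hy hy' e
    cases d
    · rw [show y = y' from Subtype.ext (hd.trans (mul_one _))]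
    · rw [show y = y' * ⟨t, htH⟩ from Subtype.ext hd, map_mul, ht, mul_one]
  -- the extraspecial subgroup
  have hQ : ∀ y : ↥(HH K), (y : G) ∈ Q → η y = 1 := by
    let P : ℕ → Prop := fun v => ∀ y : ↥(HH K), (y : G) ∈ Q → K.c (y : G) = v → η y = 1
    have hP0 : P 0 := fun y hy e => by
      rw [hsame y 1 hy Q.one_mem (e.trans (Coord.c_one S K).symm), map_one]
    have hadd : ∀ a < 256, ∀ b < 256, P a → P b → P (a ^^^ b) := by
      intro a ha b hb pa pb y hy e
      obtain ⟨q, hq, eq⟩ := exists_c S K ha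
      obtain ⟨r, hr, er⟩ := exists_c S K hb
      rw [hsame y (⟨q, Q_le S K hq⟩ * ⟨r, Q_le S K hr⟩) hy (mul_mem hq hr) (by
          rw [e, Subgroup.coe_mul, K.c_mul q hq r hr, eq, er]),
        map_mul, pa _ hq eq, pb _ hr er, mul_one]
    have hbasis : ∀ k < 8, P (2 ^ k) := by
      intro k hk y hy e
      obtain ⟨p, -, hj, hk', ep⟩ := v_comm k hk
      obtain ⟨g, -, hg⟩ := exists_lift_lev S K (lev_one hj)
      have hk2 : 2 ^ p.2 < 256 := Nat.pow_lt_pow_right (m := p.2) (n := 8) (by norm_num) hk'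
      obtain ⟨q, hq, eq⟩ := exists_c S K hk2
      let qq : ↥(HH K) := ⟨q, Q_le S K hq⟩
      have hm : ((g * qq * g⁻¹ * qq⁻¹ : ↥(HH K)) : G) ∈ Q := mul_mem (Setup.na_conj S g.2.1 hq) (inv_mem hq)
      rw [hsame y _ hy hm (by
        show _ = K.c ((g : G) * q * (g : G)⁻¹ * q⁻¹)
        rw [K.c_mul _ (Setup.na_conj S g.2.1 hq) _ (inv_mem hq), Coord.c_inv S K hq, hg q hq, eq, cwW_one, ep, e]),
        hcomm]
    have hall : ∀ v < 256, P v := by
      have key : ∀ v < 256, v = 0 ∨ ∃ k < 8, v ^^^ 2 ^ k < v := by decide +kernel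
      intro v
      induction v using Nat.strong_induction_on with
      | _ v ih =>
        intro hv
        rcases key v hv with rfl | ⟨k, hk, hlt⟩
        · exact hP0
        · have hk2 : 2 ^ k < 256 := Nat.pow_lt_pow_right (m := k) (n := 8) (by norm_num) hk
          have := hadd _ (hlt.trans hv) _ hk2 (ih _ hlt (hlt.trans hv)) (hbasis k hk)
          rwa [Nat.xor_assoc, Nat.xor_self, Nat.xor_zero] at this
    exact fun y hy => hall _ (K.c_lt _ hy) y hy rfl
  exact hQ x hx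

/-- **Rigidity**. -/
theorem hom_rigid {M : Type*} [Group M] (η : ↥(HH K) →* M) (hc : ∀ x y, η x * η y = η y * η x)
    (h0 : ∀ g : ↥(HH K), (∀ q ∈ Q, K.c ((g : G) * q * (g : G)⁻¹) = act sX (cw 0) (K.c q)) → η g = 1)
    (x : ↥(HH K)) : η x = 1 := by
  classical
  have hconj : ∀ g y : ↥(HH K), η (g * y * g⁻¹) = η y := fun g y => by
    rw [map_mul, map_mul, map_inv, hc, mul_inv_cancel_right]
  have hcomm : ∀ g y : ↥(HH K), η (g * y * g⁻¹ * y⁻¹) = 1 := fun g y => by
    rw [map_mul, hconj, map_inv, mul_inv_cancel]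
  have hQ : ∀ y : ↥(HH K), (y : G) ∈ Q → η y = 1 := fun y hy => hom_Q S K η hc hy
  have hact : ∀ y y' : ↥(HH K),
      (∀ q ∈ Q, K.c ((y : G) * q * (y : G)⁻¹) = K.c ((y' : G) * q * (y' : G)⁻¹)) → η y = η y' := fun y y' e => by
    have := hQ (y⁻¹ * y') (same_act S K y.2.1 y'.2.1 e)
    rw [map_mul, map_inv, inv_mul_eq_one] at this
    exact this
  -- the Levi complement
  have hlev : ∀ u, Lev u → ∃ g : ↥(HH K), η g = 1 ∧
      ∀ q ∈ Q, K.c ((g : G) * q * (g : G)⁻¹) = act sX (cwW u) (K.c q) := by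
    have hgen : ∀ j < 5, ∀ g : ↥(HH K),
        (∀ q ∈ Q, K.c ((g : G) * q * (g : G)⁻¹) = act sX (cw j) (K.c q)) → η g = 1 := by
      intro j hj g hg
      obtain ⟨hu, hact'⟩ := conj_act j hj
      obtain ⟨c, -, hcq⟩ := exists_lift_lev S K (show Lev (conjU.getD j []) from hu)
      obtain ⟨g0, -, hg0⟩ := exists_lift_lev S K (lev_one (show (0 : ℕ) < 5 by norm_num))
      obtain ⟨c', -, hcq'⟩ := exists_lift_lev S K (show Lev (conjU.getD j []) from hu).reverse
      rw [hact g (c * g0 * c') fun q hq => ?_]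
      · have hinv : η c' = (η c)⁻¹ := by
          have e : η (c * c') = η 1 := hact _ _ fun q hq => by
            rw [Subgroup.coe_mul, show (c : G) * (c' : G) * q * ((c : G) * (c' : G))⁻¹ =
              (c : G) * ((c' : G) * q * (c' : G)⁻¹) * (c : G)⁻¹ by group, hcq _ (Setup.na_conj S c'.2.1 hq),
              hcq' q hq, L_rev' hu (K.c_lt q hq), Subgroup.coe_one, one_mul, inv_one, mul_one]
          rw [map_mul, map_one] at e
          exact eq_inv_of_mul_eq_one_right e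
        rw [map_mul, map_mul, hinv, h0 g0 (fun q hq => by rw [← cwW_one]; exact hg0 q hq), mul_one, mul_inv_cancel]
      · have h1 := Setup.na_conj S c'.2.1 hq
        have h2 := Setup.na_conj S g0.2.1 h1
        rw [hg q hq, Subgroup.coe_mul, Subgroup.coe_mul,
          show (c : G) * (g0 : G) * (c' : G) * q * ((c : G) * (g0 : G) * (c' : G))⁻¹ =
            (c : G) * ((g0 : G) * ((c' : G) * q * (c' : G)⁻¹) * (g0 : G)⁻¹) * (c : G)⁻¹ by group,
          hcq _ h2, hg0 _ h1, hcq' q hq, ← act_append, ← act_append, ← cwW_append, ← cwW_append,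
          List.append_assoc, List.singleton_append]
        exact (ext8 (fun _ _ _ _ => act_xor sX _ _ _) (fun _ _ _ _ => act_xor sX _ _ _) hact'
          (K.c_lt q hq)).symm
    intro u hu
    induction u with
    | nil => exact ⟨1, map_one η, fun q hq => by rw [Subgroup.coe_one, one_mul, inv_one, mul_one]; rfl⟩
    | cons j u ih =>
      obtain ⟨g, eg, hg⟩ := ih hu.tail
      obtain ⟨g', -, hg'⟩ := exists_lift_lev S K (lev_one hu.head)
      rw [cwW_one] at hg'
      refine ⟨g' * g, by rw [map_mul, eg, hgen j hu.head g' hg', mul_one], fun q hq => ?_⟩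
      rw [Subgroup.coe_mul, show (g' : G) * g * q * ((g' : G) * g)⁻¹ = (g' : G) * ((g : G) * q * (g : G)⁻¹) *
        (g' : G)⁻¹ by group, hg' _ (Setup.na_conj S g.2.1 hq), hg q hq, cwW_cons, act_append]
  -- the forms
  have hform : ∀ m < 32, ∀ y : ↥(HH K), Frm K (y : G) (formB m) → η y = 1 := by
    let P : ℕ → Prop := fun b => ∀ y : ↥(HH K), Frm K (y : G) b → η y = 1
    have hex : ∀ b < 64, validF b = true → ∃ y : ↥(HH K), Frm K (y : G) b := by
      intro b hb hv
      obtain ⟨m, hm, rfl⟩ := form_span b hb hv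
      obtain ⟨x, hx, hH, ex⟩ := exists_hh_lift S K lev_nil hm
      exact ⟨⟨x, hH⟩, hb, fun q hq => by
        rw [K.act ⟨x, hx⟩ _ ex.symm q hq]; exact fWd_act hm (K.c_lt q hq)⟩
    have hadd : ∀ a b, a < 64 → validF a = true → P a → P b → P (a ^^^ b) := by
      intro a b ha hv pa pb y hy
      obtain ⟨z, hz⟩ := hex a ha hv
      have := (frm_inv S K z.2.1 hz).mul S y.2.1 hy
      rw [← Nat.xor_assoc, Nat.xor_self, Nat.zero_xor] at this
      have h1 := pb (z⁻¹ * y) this
      rw [map_mul, map_inv, pa z hz, inv_one, one_mul] at h1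
      exact h1
    have hP0 : P 0 := fun y hy => hQ y (mem_Q_of_frm (K := K) S y.2.1 hy)
    have hc5 : ∀ c ∈ [49, 50, 51, 52, 56], P c := by
      intro c hc y hy
      obtain ⟨p, -, hj, hb, hv, ep⟩ := u_comm c hc
      obtain ⟨z, hz⟩ := hex p.2 hb hv
      obtain ⟨g, -, hg⟩ := exists_lift_lev S K (lev_one hj)
      obtain ⟨f1, -, f3⟩ := F_act (lev_one hj) hb
      have hconjF : Frm K ((g * z * g⁻¹ : ↥(HH K)) : G) (wAct cjT [p.1] p.2) := by
        refine ⟨f1, fun q hq => ?_⟩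
        have hq' : (g : G)⁻¹ * q * (g : G) ∈ Q := by
          have := Setup.na_conj S (inv_mem g.2.1) hq
          rwa [inv_inv] at this
        rw [Subgroup.coe_mul, Subgroup.coe_mul, Subgroup.coe_inv,
          show (g : G) * z * (g : G)⁻¹ * q * ((g : G) * z * (g : G)⁻¹)⁻¹ =
            (g : G) * ((z : G) * ((g : G)⁻¹ * q * g) * (z : G)⁻¹) * (g : G)⁻¹ by group,
          hg _ (Setup.na_conj S z.2.1 hq'), hz.2 _ hq', f3 _ (K.c_lt _ hq'), ← hg _ hq',
          show (g : G) * ((g : G)⁻¹ * q * g) * (g : G)⁻¹ = q by group]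
      have hF := hconjF.mul S (inv_mem z.2.1) (frm_inv S K z.2.1 hz)
      rw [show wAct cjT [p.1] p.2 ^^^ p.2 = c from ep] at hF
      have := hQ ((g * z * g⁻¹ * z⁻¹)⁻¹ * y) (mem_Q_of_frm (K := K) S
        (mul_mem (inv_mem (g * z * g⁻¹ * z⁻¹).2.1) y.2.1) (by
          have := (frm_inv S K (g * z * g⁻¹ * z⁻¹).2.1 hF).mul S y.2.1 hy
          rwa [Nat.xor_self] at this))
      rw [map_mul, map_inv, hcomm, inv_one, one_mul] at this
      exact this
    have hbase : ∀ i < 5, P (formB (2 ^ i)) := by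
      intro i hi
      interval_cases i
      · exact hadd 49 (50 ^^^ 51) (by norm_num) (by decide) (hc5 49 (by simp))
          (hadd 50 51 (by norm_num) (by decide) (hc5 50 (by simp)) (hc5 51 (by simp)))
      · exact hc5 56 (by simp)
      · exact hc5 51 (by simp)
      · exact hc5 52 (by simp)
      · exact hc5 50 (by simp)
    intro m
    induction m using Nat.strong_induction_on with
    | _ m ih =>
      intro hm
      have key : ∀ m < 32, m = 0 ∨ ∃ k < 5, ∃ r < m, r < 32 ∧ m = Nat.xor (2 ^ k) r := by decide +kernel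
      rcases key m hm with rfl | ⟨k, hk, r, hrm, hr, e⟩
      · exact hP0
      · have hk32 : (2 : ℕ) ^ k < 32 := Nat.pow_lt_pow_right (m := k) (n := 5) (by norm_num) hk
        have := hadd (formB (2 ^ k)) (formB r) (fWd_ok _ hk32).1 (fWd_ok _ hk32).2.1 (hbase k hk) (ih r hrm hr)
        subst e
        rwa [show formB (Nat.xor (2 ^ k) r) = formB (2 ^ k) ^^^ formB r from ap_xor _ _ _]
  obtain ⟨u, ⟨a, ha, b, hb, c, hc', rfl⟩, m, hm, -, e⟩ := HH_word S K x.2
  obtain ⟨g, eg, hg⟩ := hlev _ (repW_lev ha hb hc')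
  obtain ⟨y, hy, hH, ey⟩ := exists_hh_lift S K lev_nil hm
  have hyc : ∀ q ∈ Q, K.c (y * q * y⁻¹) = ap (alphaM (formB m)) (K.c q) := fun q hq => by
    rw [K.act ⟨y, hy⟩ _ ey.symm q hq]; exact fWd_act hm (K.c_lt q hq)
  rw [hact x (g * ⟨y, hH⟩) fun q hq => ?_, map_mul, eg,
    hform m hm ⟨y, hH⟩ ⟨(fWd_ok m hm).1, hyc⟩, mul_one]
  rw [e q hq, Subgroup.coe_mul, show (g : G) * y * q * ((g : G) * y)⁻¹ = (g : G) * (y * q * y⁻¹) * (g : G)⁻¹ by group,
    hg _ (Setup.na_conj S hy hq), hyc q hq]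

end Cfsg.Agent.Co2Recog.Side
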