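import Cfsg.Agent.Lib.Co2Recog.Side.Twist
import Cfsg.Agent.Lib.Co2Recog.Side.Hom
import Cfsg.Agent.Lib.Solvable.Gaschutz

/-!
**The centraliser side**: an isomorphism of the monomial part of the model with the normaliser of the abelian
subgroup can be corrected so that it extends to an isomorphism of the centralisers of the involutions.
-/

set_option autoImplicit false
set_option maxRecDepth 20000
set_option linter.unusedSectionVars false

noncomputable section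

namespace Cfsg.Agent.Co2Recog.Side

open Cfsg Cfsg.Agent.Golay Subgroup
open Cfsg.Agent.Co2Recog.NA
open Cfsg.Agent.Co2Recog.Layers (incl2 N2)
open Cfsg.Agent.Co2Graph (C2 sigma2 sigma2_mem)

theorem t2_N2 : E8Cent.t2 ∈ N2 := A2_le_N2 t2_A2

theorem HH_le_N2 : HH K2 ≤ N2 := by rw [HH_K2]; exact inf_le_left

theorem HH_le_C2 : HH K2 ≤ C2 := by rw [HH_K2]; exact inf_le_right

theorem mem_HH2 {x : ↥Spor.Co2} (h1 : x ∈ N2) (h2 : x ∈ C2) : x ∈ HH K2 :=
  (SetLike.ext_iff.1 HH_K2 x).2 ⟨h1, h2⟩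

/-- An element of the monomial part of the centraliser, in the monomial group. -/
def toN : ↥(HH K2) →* ↥N2 := Subgroup.inclusion HH_le_N2

/-- It in the centraliser. -/
def toC : ↥(HH K2) →* ↥C2 := Subgroup.inclusion HH_le_C2

universe u

variable {G : Type u} [Group G] [Finite G] {t : G} {Q : Subgroup G}

/-- What is given on the side of the normaliser. -/
structure NData (t : G) (Q : Subgroup G) (K : Coords t Q) (fN : ↥N2 →* G) : Prop where
  inj : Function.Injective fN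
  range : fN.range = normalizer (AA K : Set G)
  center : fN ⟨E8Cent.t2, t2_N2⟩ = t
  abel : ∀ x : ↥N2, fN x ∈ AA K ↔ (x : ↥Spor.Co2) ∈ A2

variable {K : Coords t Q} {fN : ↥N2 →* G}

/-- The restriction is an isomorphism of the centralisers in the normalisers. -/
theorem NData.iso (D : NData t Q K fN) : IsoH K2 K (fN.comp toN) where
  inj := D.inj.comp (Subgroup.inclusion_injective _)
  range := by
    refine le_antisymm ?_ fun y hy => ?_
    · rintro _ ⟨x, rfl⟩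
      refine ⟨mem_centralizer_singleton_iff.2 ?_, D.range.le ⟨_, rfl⟩⟩
      show fN (toN x) * t = t * fN (toN x)
      rw [← D.center, ← map_mul, ← map_mul]
      congr 1
      exact Subtype.ext (mem_centralizer_singleton_iff.1 (HH_le_C2 x.2))
    · obtain ⟨n, rfl⟩ := D.range.ge hy.2
      have hc : (n : ↥Spor.Co2) ∈ C2 := mem_centralizer_singleton_iff.2 (congrArg Subtype.val
        (D.inj (show fN (n * ⟨E8Cent.t2, t2_N2⟩) = fN (⟨E8Cent.t2, t2_N2⟩ * n) by
          rw [map_mul, map_mul, D.center]; exact mem_centralizer_singleton_iff.1 hy.1)))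
      exact ⟨⟨(n : ↥Spor.Co2), mem_HH2 n.2 hc⟩, rfl⟩
  center x hx := by
    show fN (toN x) = t
    rw [show toN x = ⟨E8Cent.t2, t2_N2⟩ from Subtype.ext hx, D.center]
  abel x := by rw [AA_K2]; exact D.abel (toN x)

/-- Composition with the outer automorphism. -/
theorem NData.twist (D : NData t Q K fN) : NData t Q K (fN.comp delta) := by
  have := Co2Graph.finite_Co2
  have hs : Function.Surjective delta := Finite.injective_iff_surjective.1 delta_inj
  refine ⟨D.inj.comp delta_inj, ?_, ?_, fun x => (D.abel _).trans (delta_A2 x)⟩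
  · rw [MonoidHom.range_comp, MonoidHom.range_eq_top.2 hs, ← MonoidHom.range_eq_map, D.range]
  · show fN (delta ⟨E8Cent.t2, t2_N2⟩) = t
    rw [show delta ⟨E8Cent.t2, t2_N2⟩ = ⟨E8Cent.t2, t2_N2⟩ from Subtype.ext (delta_t2 t2_N2), D.center]

/-- One of the two isomorphisms has valid class. -/
theorem NData.exists_valid (S : Setup t Q) (D : NData t Q K fN) :
    ∃ f : ↥N2 →* G, NData t Q K f ∧ Cls K2 K (f.comp toN) true := by
  obtain ⟨v, hv⟩ := D.iso.exists_cls setup2 S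
  cases v
  · refine ⟨fN.comp delta, D.twist, ?_⟩
    have h := deltaH_iso.comp_cls setup2 setup2 D.iso deltaH_class hv
    have e : IsoH.comp deltaH_iso setup2 setup2 (fN.comp toN) = (fN.comp delta).comp toN :=
      MonoidHom.ext fun x => rfl
    rw [e] at h
    exact h
  · exact ⟨fN, D, hv⟩

/-- The value on `Q` as the model's element. -/
theorem conj_qH (m : ↥C2) (q : ↥Q2) :
    (m : ↥Spor.Co2) * (q : ↥Spor.Co2) * (m : ↥Spor.Co2)⁻¹ ∈ Q2 := Setup.na_conj setup2 m.2 q.2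

/-- The automorphism of the extraspecial subgroup induced by an element. -/
def conjQ (m : ↥C2) (q : ↥Q2) : ↥Q2 := ⟨_, conj_qH m q⟩

theorem conjQ_one (q : ↥Q2) : conjQ 1 q = q :=
  Subtype.ext (by show (1 : ↥Spor.Co2) * q * (1 : ↥Spor.Co2)⁻¹ = q; group)

theorem conjQ_inv (m : ↥C2) (q : ↥Q2) : conjQ m (conjQ m⁻¹ q) = q := by
  refine Subtype.ext ?_
  show (m : ↥Spor.Co2) * ((m : ↥Spor.Co2)⁻¹ * q * (m : ↥Spor.Co2)⁻¹⁻¹) * (m : ↥Spor.Co2)⁻¹ = q
  group

theorem conjQ_mul (m n : ↥C2) (q : ↥Q2) : conjQ (m * n) q = conjQ m (conjQ n q) :=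
  Subtype.ext (by
    show (m : ↥Spor.Co2) * n * q * ((m : ↥Spor.Co2) * n)⁻¹ = m * ((n : ↥Spor.Co2) * q * (n : ↥Spor.Co2)⁻¹) * (m : ↥Spor.Co2)⁻¹
    group)

/-- The centraliser as it acts on the lines. -/
def f2c : ↥C2 →* Equiv.Perm (Fin 63) := f2.comp (Subgroup.inclusion fun _ hx => hx)

theorem f2c_mk (v : ↥Spor.Co2) (hv : v ∈ C2) : f2c ⟨v, hv⟩ = f2 ⟨v, hv⟩ := rfl

theorem f2c_Q2 {z : ↥C2} (hz : (z : ↥Spor.Co2) ∈ Q2) : f2c z = 1 :=
  MonoidHom.mem_ker.1 (show (⟨(z : ↥Spor.Co2), z.2⟩ : ↥(Subgroup.centralizer ({E8Cent.t2} : Set ↥Spor.Co2))) ∈ f2.ker by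
    rw [f2_ker]; exact hz)

/-- The isomorphism on the extraspecial subgroup. -/
def phiQ (fN : ↥N2 →* G) : ↥Q2 →* G := fN.comp (Subgroup.inclusion Q2_le_N2)

theorem phiQ_val (fN : ↥N2 →* G) (q : ↥Q2) : phiQ fN q = fN ⟨(q : ↥Spor.Co2), Q2_le_N2 q.2⟩ := rfl

theorem NData.onQ_eq (D : NData t Q K fN) (S : Setup t Q) : D.iso.onQ setup2 S = phiQ fN :=
  MonoidHom.ext fun _ => rfl

theorem NData.phi_inj (D : NData t Q K fN) (S : Setup t Q) : Function.Injective (phiQ fN) :=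
  D.onQ_eq S ▸ D.iso.onQ_inj setup2 S

theorem NData.phi_mem (D : NData t Q K fN) (S : Setup t Q) (q : ↥Q2) : phiQ fN q ∈ Q :=
  D.onQ_eq S ▸ D.iso.onQ_mem setup2 S q

theorem NData.phi_onto (D : NData t Q K fN) (S : Setup t Q) {y : G} (hy : y ∈ Q) : ∃ q, phiQ fN q = y := by
  have := Co2Graph.finite_Co2
  exact D.onQ_eq S ▸ D.iso.onQ_onto setup2 S hy

/-- The pairs with the same action on the extraspecial subgroups. -/
def pairsC (t : G) (φ : ↥Q2 →* G) : Subgroup (↥C2 × G) where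
  carrier := {p | p.2 ∈ centralizer {t} ∧ ∀ q, φ (conjQ p.1 q) = p.2 * φ q * p.2⁻¹}
  one_mem' := ⟨one_mem _, fun q => by
    show φ (conjQ 1 q) = 1 * φ q * 1⁻¹
    rw [conjQ_one, inv_one, mul_one, one_mul]⟩
  mul_mem' := by
    rintro ⟨m, c⟩ ⟨n, d⟩ ⟨hc, hx⟩ ⟨hd, hy⟩
    refine ⟨mul_mem hc hd, fun q => ?_⟩
    show φ (conjQ (m * n) q) = c * d * φ q * (c * d)⁻¹
    rw [conjQ_mul, hx, hy]
    group
  inv_mem' := by
    rintro ⟨m, c⟩ ⟨hc, hx⟩
    refine ⟨inv_mem hc, fun q => ?_⟩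
    show φ (conjQ m⁻¹ q) = c⁻¹ * φ q * c⁻¹⁻¹
    have h := hx (conjQ m⁻¹ q)
    simp only at h
    rw [← conjQ_mul, mul_inv_cancel, conjQ_one] at h
    rw [h]
    group

/-- A map of the centraliser which acts on the extraspecial subgroup as it should. -/
structure CLift (t : G) (fN : ↥N2 →* G) (fC : ↥C2 →* G) : Prop where
  mem : ∀ m, fC m ∈ centralizer ({t} : Set G)
  act : ∀ m q, phiQ fN (conjQ m q) = fC m * phiQ fN q * (fC m)⁻¹

theorem NData.central (S : Setup t Q) (D : NData t Q K fN) {c : G} (hc : c ∈ centralizer ({t} : Set G))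
    (h : ∀ q, c * phiQ fN q = phiQ fN q * c) : c = 1 ∨ c = t := by
  refine cent_two S K hc fun y hy => ?_
  obtain ⟨q, rfl⟩ := D.phi_onto S hy
  exact h q

/-- The monomial part of the pairs. -/
theorem NData.diag_mem (S : Setup t Q) (D : NData t Q K fN) (m : ↥(HH K2)) :
    (toC m, fN (toN m)) ∈ pairsC t (phiQ fN) := by
  refine ⟨(D.iso.mem setup2 S m).1, fun q => ?_⟩
  rw [phiQ_val, phiQ_val, ← map_inv, ← map_mul, ← map_mul]
  exact congrArg fN (Subtype.ext rfl)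

theorem card_HH2 : Nat.card ↥(HH K2) = 11796480 := by
  have := Co2Graph.finite_Co2
  have h3 := card_HH setup2 K2
  have h4 : 11796480 ≤ Nat.card ↥(HH K2) := by rw [HH_K2]; exact Co2Graph.card_N2C2
  omega

theorem toC_index : toC.range.index = 63 := by
  have h1 : Nat.card ↥toC.range = Nat.card ↥(HH K2) :=
    (Nat.card_congr (MonoidHom.ofInjective (Subgroup.inclusion_injective HH_le_C2)).toEquiv).symm
  have h2 := toC.range.card_mul_index
  rw [h1, Co2Graph.card_C2, card_HH2] at h2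
  omega

set_option maxHeartbeats 2000000 in
/-- **A lift exists.** -/
theorem NData.exists_lift (S : Setup t Q) (D : NData t Q K fN) (hcls : Cls K2 K (fN.comp toN) true) :
    ∃ fC : ↥C2 →* G, CLift t fN fC := by
  classical
  have := Co2Graph.finite_Co2
  let pr : pairsC t (phiQ fN) →* ↥C2 := (MonoidHom.fst ↥C2 G).comp (pairsC t (phiQ fN)).subtype
  have prsurj : Function.Surjective pr := fun m => by
    obtain ⟨c, hc, hq⟩ := D.iso.exists_lift setup2 S hcls (m := (m : ↥Spor.Co2)) m.2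
    exact ⟨⟨(m, c), hc, fun q => hq q⟩, rfl⟩
  have hker : ∀ p, pr p = 1 → (p : ↥C2 × G).2 = 1 ∨ (p : ↥C2 × G).2 = t := by
    rintro ⟨⟨m, c⟩, hc, hq⟩ e
    change m = 1 at e
    subst e
    refine D.central S hc fun q => ?_
    have h := hq q
    simp only [conjQ_one] at h
    exact (eq_mul_inv_iff_mul_eq.1 h).symm
  have htc : t ∈ centralizer ({t} : Set G) := mem_centralizer_singleton_iff.2 rfl
  have hφt : ∀ q, phiQ fN q * t = t * phiQ fN q := fun q =>
    mem_centralizer_singleton_iff.1 (S.le (D.phi_mem S q))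
  let zP : pairsC t (phiQ fN) := ⟨(1, t), htc, fun q => by
    show phiQ fN (conjQ 1 q) = t * phiQ fN q * t⁻¹
    rw [conjQ_one, ← hφt, mul_inv_cancel_right]⟩
  have hzP : ∀ p, p ∈ pr.ker ↔ p = 1 ∨ p = zP := by
    intro p
    refine ⟨fun e => ?_, fun e => by rcases e with rfl | rfl <;> simp [pr, zP]⟩
    rcases hker p (MonoidHom.mem_ker.1 e) with e' | e'
    · exact Or.inl (Subtype.ext (Prod.ext (MonoidHom.mem_ker.1 e) e'))
    · exact Or.inr (Subtype.ext (Prod.ext (MonoidHom.mem_ker.1 e) e'))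
  have hzne : zP ≠ 1 := fun e => Setup.na_ne S (congrArg (fun z : pairsC t (phiQ fN) => (z : ↥C2 × G).2) e)
  haveI : IsMulCommutative pr.ker := ⟨⟨fun a b => by
    rcases (hzP a).1 a.2 with e | e <;> rcases (hzP b).1 b.2 with e' | e' <;>
      exact Subtype.ext (by rw [Subgroup.coe_mul, Subgroup.coe_mul, e, e']; try simp)⟩⟩
  have hcard : Nat.card pr.ker ∣ 2 := by
    have hle : Nat.card pr.ker ≤ 2 := by
      refine le_of_le_of_eq (Nat.card_le_card_of_injective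
        (fun a : pr.ker => if (a : pairsC t (phiQ fN)) = 1 then (0 : Fin 2) else 1) ?_) (Nat.card_fin 2)
      intro a b e
      rcases (hzP a).1 a.2 with ea | ea <;> rcases (hzP b).1 b.2 with eb | eb
      · exact Subtype.ext (ea.trans eb.symm)
      · simp [ea, eb, hzne] at e
      · simp [ea, eb, hzne] at e
      · exact Subtype.ext (ea.trans eb.symm)
    have hpos : 0 < Nat.card pr.ker := Nat.card_pos
    rcases (show Nat.card pr.ker = 1 ∨ Nat.card pr.ker = 2 by omega) with e | e <;> rw [e]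
    norm_num
  let diagH : ↥(HH K2) →* pairsC t (phiQ fN) := (toC.prod (fN.comp toN)).codRestrict _ (D.diag_mem S)
  have hprH : pr.comp diagH = toC := rfl
  have hdisj : diagH.range ⊓ pr.ker = ⊥ := by
    refine eq_bot_iff.2 ?_
    rintro _ ⟨⟨m, rfl⟩, hk⟩
    have h1 : toC m = 1 := hk
    rw [show m = 1 from Subgroup.inclusion_injective _ (h1.trans (map_one toC).symm), map_one]
    exact one_mem _
  have hidx' : (pr.ker ⊔ diagH.range).index = 63 := by
    have e : ((pr.ker ⊔ diagH.range).map pr) = toC.range := by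
      rw [Subgroup.map_sup, (Subgroup.map_eq_bot_iff _).2 le_rfl, bot_sup_eq, MonoidHom.map_range, hprH]
    have h2 : ((pr.ker ⊔ diagH.range).map pr).index = (pr.ker ⊔ diagH.range).index := by
      rw [index_map, sup_eq_left.2 le_sup_left, MonoidHom.range_eq_top.2 prsurj, index_top, mul_one]
    rw [← h2, e, toC_index]
  obtain ⟨Kc, hKc⟩ := SolvGaschutz.existence (U := pr.ker ⊔ diagH.range) le_sup_left
    (Nat.Coprime.coprime_dvd_left hcard (by rw [hidx']; norm_num)) le_sup_right hdisj rfl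
  have hbij : Function.Bijective (pr.comp Kc.subtype) := by
    constructor
    · refine (injective_iff_map_eq_one _).2 fun k hk => ?_
      have hk' : (k : pairsC t (phiQ fN)) ∈ (⊥ : Subgroup (pairsC t (phiQ fN))) := by
        rw [← hKc.isCompl.inf_eq_bot]; exact ⟨hk, k.2⟩
      exact Subtype.ext (mem_bot.1 hk')
    · intro x
      obtain ⟨p, rfl⟩ := prsurj x
      obtain ⟨⟨a, k⟩, rfl⟩ := hKc.existsUnique p |>.exists
      refine ⟨k, ?_⟩
      show pr k = pr (a * k)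
      rw [map_mul, MonoidHom.mem_ker.1 a.2, one_mul]
  let E : Kc ≃* ↥C2 := MulEquiv.ofBijective (pr.comp Kc.subtype) hbij
  let fC : ↥C2 →* G :=
    ((MonoidHom.snd ↥C2 G).comp ((pairsC t (phiQ fN)).subtype.comp Kc.subtype)).comp E.symm.toMonoidHom
  have hf : ∀ k, fC (E k) = ((k : pairsC t (phiQ fN)) : ↥C2 × G).2 := fun k =>
    congrArg (fun z : Kc => ((z : pairsC t (phiQ fN)) : ↥C2 × G).2) (E.symm_apply_apply k)
  have hE : ∀ k, E k = ((k : pairsC t (phiQ fN)) : ↥C2 × G).1 := fun k => rfl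
  refine ⟨fC, fun m => ?_, fun m q => ?_⟩ <;> obtain ⟨k, rfl⟩ := E.surjective m
  · rw [hf]; exact (k : pairsC t (phiQ fN)).2.1
  · rw [hf, hE]; exact (k : pairsC t (phiQ fN)).2.2 q

variable {fC : ↥C2 →* G}

theorem CLift.comm (L : CLift t fN fC) (m : ↥C2) : fC m * t = t * fC m :=
  mem_centralizer_singleton_iff.1 (L.mem m)

/-- The difference on the monomial part. -/
def eta (fN : ↥N2 →* G) (fC : ↥C2 →* G) (m : ↥(HH K2)) : G := fN (toN m) * (fC (toC m))⁻¹

theorem eta_fN (m : ↥Spor.Co2) (h1 : m ∈ N2) (h2 : m ∈ C2) :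
    fN ⟨m, h1⟩ = eta fN fC ⟨m, mem_HH2 h1 h2⟩ * fC ⟨m, h2⟩ := (inv_mul_cancel_right _ _).symm

theorem CLift.eta_cases (L : CLift t fN fC) (S : Setup t Q) (D : NData t Q K fN) (m : ↥(HH K2)) :
    eta fN fC m = 1 ∨ eta fN fC m = t := by
  refine D.central S (mul_mem (D.iso.mem setup2 S m).1 (inv_mem (L.mem _))) fun p => ?_
  have h1 : phiQ fN p = fN (toN m) * phiQ fN (conjQ (toC m)⁻¹ p) * (fN (toN m))⁻¹ := by
    have h := (D.diag_mem S m).2 (conjQ (toC m)⁻¹ p)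
    rwa [conjQ_inv] at h
  have h2 : phiQ fN p = fC (toC m) * phiQ fN (conjQ (toC m)⁻¹ p) * (fC (toC m))⁻¹ := by
    rw [← L.act, conjQ_inv]
  calc eta fN fC m * phiQ fN p
      = fN (toN m) * phiQ fN (conjQ (toC m)⁻¹ p) * (fC (toC m))⁻¹ := by rw [h2, eta]; group
    _ = phiQ fN p * eta fN fC m := by rw [h1, eta]; group

theorem CLift.eta_comm (L : CLift t fN fC) (S : Setup t Q) (D : NData t Q K fN) (m : ↥(HH K2)) {u : G}
    (hu : u * t = t * u) : eta fN fC m * u = u * eta fN fC m := by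
  rcases L.eta_cases S D m with e | e <;> rw [e]
  · rw [one_mul, mul_one]
  · exact hu.symm

theorem CLift.eta_mul (L : CLift t fN fC) (S : Setup t Q) (D : NData t Q K fN) (m n : ↥(HH K2)) :
    eta fN fC (m * n) = eta fN fC m * eta fN fC n := by
  show fN (toN (m * n)) * (fC (toC (m * n)))⁻¹ = _
  rw [map_mul toN, map_mul fN, map_mul toC, map_mul fC, mul_inv_rev, mul_assoc, ← mul_assoc (fN (toN n)),
    show fN (toN n) * (fC (toC n))⁻¹ = eta fN fC n from rfl,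
    L.eta_comm S D n (mem_centralizer_singleton_iff.1 (inv_mem (L.mem _))), ← mul_assoc]
  rfl

theorem CLift.eta_t (L : CLift t fN fC) (S : Setup t Q) (D : NData t Q K fN) (m : ↥(HH K2)) :
    eta fN fC m * t = t * eta fN fC m := L.eta_comm S D m rfl

theorem CLift.eta_Q (L : CLift t fN fC) (S : Setup t Q) (D : NData t Q K fN) (m : ↥(HH K2))
    (hm : (m : ↥Spor.Co2) ∈ Q2) : eta fN fC m = 1 :=
  hom_Q setup2 K2 (MonoidHom.mk' (eta fN fC) (L.eta_mul S D))
    (fun a b => L.eta_comm S D a (L.eta_t S D b)) hm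

theorem CLift.fix (L : CLift t fN fC) (S : Setup t Q) (D : NData t Q K fN) {m : ↥C2} (hm : fC m = 1) :
    (m : ↥Spor.Co2) ∈ Q2 := by
  have hfix : ∀ q : ↥Q2, conjQ m q = q := fun q => D.phi_inj S (by
    rw [L.act m q, hm, one_mul, inv_one, mul_one])
  exact setup2.self _ m.2 fun q hq => mul_inv_eq_iff_eq_mul.1 (congrArg Subtype.val (hfix ⟨q, hq⟩))

theorem CLift.range_eq (L : CLift t fN fC) (S : Setup t Q) (D : NData t Q K fN)
    (hcls : Cls K2 K (fN.comp toN) true) {y : G} (hy : y ∈ centralizer ({t} : Set G)) :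
    ∃ m, y = fC m := by
  have := Co2Graph.finite_Co2
  obtain ⟨w, hw⟩ := Co2Recog.exists_word (p := K.π ⟨y, hy⟩) (by rw [← K.range]; exact ⟨_, rfl⟩)
  obtain ⟨wl, hwl⟩ := hcls.word rfl
  obtain ⟨m, hm⟩ := MonoidHom.mem_range.1 (show permW (wl.reverse ++ (w ++ wl)) ∈ K2.π.range by
    rw [K2.range]; exact Co2Recog.permW_mem _)
  let m' : ↥C2 := ⟨(m : ↥Spor.Co2), m.2⟩
  have hact : ∀ q ∈ Q, K.c (fC m' * q * (fC m')⁻¹) = K.c (y * q * y⁻¹) := by
    intro q hq
    obtain ⟨p, rfl⟩ := D.phi_onto S hq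
    rw [← L.act m' p, K.act ⟨y, hy⟩ w hw _ (D.phi_mem S p)]
    show K.c ((fN.comp toN) (qH setup2 K2 (conjQ m' p))) =
      ThRec.Eight.act sX w (K.c ((fN.comp toN) (qH setup2 K2 p)))
    rw [hwl (qH setup2 K2 p) p.2, hwl (qH setup2 K2 (conjQ m' p)) (conjQ m' p).2]
    show ThRec.Eight.act sX wl (K2.c ((m : ↥Spor.Co2) * p * (m : ↥Spor.Co2)⁻¹)) =
      ThRec.Eight.act sX w (ThRec.Eight.act sX wl (K2.c (p : ↥Spor.Co2)))
    rw [K2.act m _ hm.symm _ p.2, ThRec.Eight.act_append, ThRec.Eight.act_append]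
    have hb := NA.act_lt w (NA.act_lt wl (K2.c_lt _ p.2))
    have := NA.act_reverse wl.reverse hb
    rw [List.reverse_reverse] at this
    exact this
  have hd := same_act S K (L.mem m') hy hact
  obtain ⟨p, hp⟩ := D.phi_onto S hd
  have hpC : (p : ↥Spor.Co2) ∈ C2 := Q2_le_C2 p.2
  have e : phiQ fN p = fC ⟨(p : ↥Spor.Co2), hpC⟩ := by
    rw [phiQ_val, eta_fN (fC := fC) _ (Q2_le_N2 p.2) hpC, L.eta_Q S D _ p.2, one_mul]
  refine ⟨m' * ⟨(p : ↥Spor.Co2), hpC⟩, ?_⟩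
  rw [map_mul, ← e, hp, mul_inv_cancel_left]

open Classical in
/-- The sign of the outer automorphism, as a homomorphism to the group generated by `t`. -/
def theta (t : G) (fN : ↥N2 →* G) (fC : ↥C2 →* G) (m : ↥(HH K2)) : G :=
  if chi (m : ↥Spor.Co2) = 1 then eta fN fC m else eta fN fC m * t

theorem chi_cases (m : ↥Spor.Co2) : chi m = 1 ∨ chi m = Leech.negCo0 := by
  unfold chi; split_ifs <;> simp

theorem CLift.theta_mul (L : CLift t fN fC) (S : Setup t Q) (D : NData t Q K fN) (m n : ↥(HH K2)) :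
    theta t fN fC (m * n) = theta t fN fC m * theta t fN fC n := by
  have hneg : (Leech.negCo0 : Cfsg.Co0) ≠ 1 := fun e => Leech.negCo0_ne_one e
  have hc : chi ((m * n : ↥(HH K2)) : ↥Spor.Co2) = chi (m : ↥Spor.Co2) * chi (n : ↥Spor.Co2) :=
    chi_mul (HH_le_N2 m.2) (HH_le_N2 n.2)
  unfold theta
  rw [L.eta_mul S D, hc]
  rcases chi_cases (m : ↥Spor.Co2) with e | e <;> rcases chi_cases (n : ↥Spor.Co2) with e' | e' <;>
    rw [e, e'] <;> simp only [mul_one, one_mul, hneg, negCo0_sq, if_true, if_false]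
  · rw [mul_assoc]
  · rw [mul_assoc (eta fN fC m), L.eta_t S D n, mul_assoc]
  · rw [mul_assoc (eta fN fC m) t, ← mul_assoc t, ← L.eta_t S D n, mul_assoc (eta fN fC n) t,
      Setup.na_sq S, mul_one]

theorem CLift.theta_comm (L : CLift t fN fC) (S : Setup t Q) (D : NData t Q K fN) (m n : ↥(HH K2)) :
    theta t fN fC m * theta t fN fC n = theta t fN fC n * theta t fN fC m := by
  have hs : ∀ m, theta t fN fC m = 1 ∨ theta t fN fC m = t := fun m => by
    unfold theta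
    split_ifs
    · exact L.eta_cases S D m
    · rcases L.eta_cases S D m with e | e <;> rw [e]
      · exact Or.inr (one_mul t)
      · exact Or.inl (Setup.na_sq S)
  rcases hs m with e | e <;> rcases hs n with e' | e' <;> rw [e, e'] <;> simp

/-- If the difference is not trivial it is the sign of the outer automorphism. -/
theorem CLift.theta_one (L : CLift t fN fC) (S : Setup t Q) (D : NData t Q K fN)
    (hne : ¬ ∀ m, eta fN fC m = 1) (m0 : ↥(HH K2)) (hm0 : chi (m0 : ↥Spor.Co2) ≠ 1) :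
    ∀ m, theta t fN fC m = 1 := by
  have hneg : (Leech.negCo0 : Cfsg.Co0) ≠ 1 := fun e => Leech.negCo0_ne_one e
  refine hom_rigid setup2 K2 (MonoidHom.mk' (theta t fN fC) (L.theta_mul S D)) (L.theta_comm S D) ?_
  intro g0 hg0
  have hN : ∀ m : ↥(HH K2), (m : ↥Spor.Co2) ∈ N2 := fun m => HH_le_N2 m.2
  have hsame : ∀ g1 : ↥(HH K2),
      (∀ q ∈ Q2, K2.c ((g1 : ↥Spor.Co2) * q * (g1 : ↥Spor.Co2)⁻¹) = ThRec.Eight.act sX (cw 0) (K2.c q)) →
      eta fN fC g1 = eta fN fC g0 ∧ chi (g1 : ↥Spor.Co2) = chi (g0 : ↥Spor.Co2) := by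
    intro g1 hg1
    have hQ : ((g0⁻¹ * g1 : ↥(HH K2)) : ↥Spor.Co2) ∈ Q2 := same_act setup2 K2 g0.2.1 g1.2.1 fun q hq => by
      rw [hg0 q hq, hg1 q hq]
    have e1 := L.eta_Q S D _ hQ
    rw [← mul_inv_cancel_left g0 g1, L.eta_mul S D, e1, mul_one, Subgroup.coe_mul, chi_mul (hN _) (hN _),
      chi_Q2 hQ, mul_one]
    exact ⟨rfl, rfl⟩
  have hχ0 : chi (g0 : ↥Spor.Co2) = Leech.negCo0 := by
    by_contra hc
    exact hm0 (hom_rigid setup2 K2
      (MonoidHom.mk' (fun m : ↥(HH K2) => chi (m : ↥Spor.Co2)) fun m n => chi_mul (hN m) (hN n))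
      (fun m n => chi_comm _ _) (fun g1 hg1 => ((hsame g1 hg1).2).trans ((chi_cases _).resolve_right hc)) m0)
  have hη0 : eta fN fC g0 = t := by
    refine (L.eta_cases S D g0).resolve_left fun hc => hne fun m => ?_
    exact hom_rigid setup2 K2 (MonoidHom.mk' (eta fN fC) (L.eta_mul S D))
      (fun a b => L.eta_comm S D a (L.eta_t S D b)) (fun g1 hg1 => (hsame g1 hg1).1.trans hc) m
  show theta t fN fC g0 = 1
  simp only [theta, hχ0, hneg, if_false, hη0, Setup.na_sq S]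

/-- The conjugation by the separating element on the level of the values. -/
theorem conj_flip {c e ee a : G} (h1 : e * c = c * e) (h2 : e * ee = ee * e) (h3 : a * ee = ee * a)
    (h4 : ee * (a * c * a⁻¹) = a * c * a⁻¹ * ee) :
    a * c * a⁻¹ = a * e * (ee * c) * (a * e)⁻¹ * ee⁻¹ := by
  have h5 : a * e * (ee * c) * (a * e)⁻¹ = ee * (a * c * a⁻¹) := by
    calc a * e * (ee * c) * (a * e)⁻¹ = a * (e * ee) * c * e⁻¹ * a⁻¹ := by group
      _ = a * ee * (e * c) * e⁻¹ * a⁻¹ := by rw [h2]; group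
      _ = a * ee * c * a⁻¹ := by rw [h1]; group
      _ = ee * (a * c * a⁻¹) := by rw [h3]; group
  rw [h5, h4, mul_inv_cancel_right]

set_option maxHeartbeats 1000000 in
/-- **The separating elements refute the sign.** -/
theorem CLift.kill (L : CLift t fN fC) (S : Setup t Q) (D : NData t Q K fN)
    (hcls : Cls K2 K (fN.comp toN) true) : ∀ m, eta fN fC m = 1 := by
  by_contra hne
  have hneg : (Leech.negCo0 : Cfsg.Co0) ≠ 1 := fun e => Leech.negCo0_ne_one e
  have htt : t * t = 1 := Setup.na_sq S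
  obtain ⟨x, x', u, u2, a, b, g, hx, hx', hu, hu2, ha, hb, hg, hga, hgb, hgx, hgx', hsx, hsa, hχx, hχx', hfix⟩ :=
    twist_witness
  have hθ := L.theta_one S D hne ⟨x, mem_HH2 hx.1 hx.2⟩ (by rw [hχx]; exact hneg)
  have hX : eta fN fC ⟨x, mem_HH2 hx.1 hx.2⟩ = t := by
    have := hθ ⟨x, mem_HH2 hx.1 hx.2⟩
    simp only [theta, hχx, hneg, if_false] at this
    rcases L.eta_cases S D ⟨x, mem_HH2 hx.1 hx.2⟩ with e | e
    · rw [e, one_mul] at this; exact absurd this (Setup.na_ne S)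
    · exact e
  have hX' : eta fN fC ⟨x', mem_HH2 hx'.1 hx'.2⟩ = 1 := by
    have := hθ ⟨x', mem_HH2 hx'.1 hx'.2⟩
    simp only [theta, hχx', if_true] at this
    exact this
  have hA : eta fN fC ⟨a, mem_HH2 (A2_le_N2 ha) (A2_le_C2 ha)⟩ = 1 := by
    have := hθ ⟨a, mem_HH2 (A2_le_N2 ha) (A2_le_C2 ha)⟩
    simp only [theta, chi_diag ha, if_true] at this
    exact this
  set k := fC ⟨sigma2, sigma2_mem⟩ with hk
  set hh := fN ⟨g, hg⟩ with hhh
  have e1 : k * (fN ⟨x, hx.1⟩ * t) * k⁻¹ = fN ⟨x', hx'.1⟩ := by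
    rw [eta_fN (fC := fC) x hx.1 hx.2, hX, eta_fN (fC := fC) x' hx'.1 hx'.2, hX', one_mul, ← L.comm,
      mul_assoc (fC ⟨x, hx.2⟩), htt, mul_one, hk, ← map_inv, ← map_mul, ← map_mul]
    exact congrArg fC (Subtype.ext hsx)
  have hga' : hh * fN ⟨a, A2_le_N2 ha⟩ * hh⁻¹ = t := by
    rw [hhh, ← map_inv, ← map_mul, ← map_mul]
    refine Eq.trans (congrArg fN (Subtype.ext ?_)) D.center
    exact hga
  have hka : k * fN ⟨a, A2_le_N2 ha⟩ = fN ⟨a, A2_le_N2 ha⟩ * k := by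
    rw [eta_fN (fC := fC) a (A2_le_N2 ha) (A2_le_C2 ha), hA, one_mul, hk, ← map_mul, ← map_mul]
    exact congrArg fC (Subtype.ext hsa)
  set T := hh * k * hh⁻¹ with hT
  have hTt : T ∈ centralizer ({t} : Set G) := mem_centralizer_singleton_iff.2 (by
    rw [← hga', hT]
    calc hh * k * hh⁻¹ * (hh * fN ⟨a, A2_le_N2 ha⟩ * hh⁻¹) = hh * (k * fN ⟨a, A2_le_N2 ha⟩) * hh⁻¹ := by group
      _ = _ := by rw [hka]; group)
  obtain ⟨k', hTk⟩ := L.range_eq S D hcls hTt
  have hUb : u * b ∈ C2 := mul_mem hu.2 (A2_le_C2 hb)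
  have hUbN : u * b ∈ N2 := mul_mem hu.1 (A2_le_N2 hb)
  have hub : fN ⟨u * b, hUbN⟩ = hh * (fN ⟨x, hx.1⟩ * t) * hh⁻¹ := by
    rw [hhh, ← D.center, ← map_inv, ← map_mul, ← map_mul, ← map_mul]
    refine congrArg fN (Subtype.ext ?_)
    show u * b = g * (x * E8Cent.t2) * g⁻¹
    rw [← hgx, ← hgb]
    group
  have hu2' : fN ⟨u2, hu2.1⟩ = hh * fN ⟨x', hx'.1⟩ * hh⁻¹ := by
    rw [hhh, ← map_inv, ← map_mul, ← map_mul]
    exact congrArg fN (Subtype.ext hgx'.symm)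
  have e2 : T * fN ⟨u * b, hUbN⟩ * T⁻¹ = fN ⟨u2, hu2.1⟩ := by
    rw [hub, hu2', ← e1, hT]
    group
  have e3 : fC (k' * ⟨u * b, hUb⟩ * k'⁻¹) =
      fN ⟨u2, hu2.1⟩ * (eta fN fC ⟨u * b, mem_HH2 hUbN hUb⟩)⁻¹ := by
    rw [← e2, hTk, eta_fN (fC := fC) _ hUbN hUb, map_mul, map_mul, map_inv]
    have h := conj_flip (c := fC ⟨u * b, hUb⟩) (e := 1) (ee := eta fN fC ⟨u * b, mem_HH2 hUbN hUb⟩)
      (a := fC k') (by rw [one_mul, mul_one]) (by rw [one_mul, mul_one]) (L.eta_comm S D _ (L.comm _)).symm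
      (L.eta_comm S D _ (mem_centralizer_singleton_iff.1
        (mul_mem (mul_mem (L.mem _) (L.mem _)) (inv_mem (L.mem _)))))
    rwa [mul_one] at h
  have hft : fC ⟨E8Cent.t2, mem_centralizer_singleton_iff.2 rfl⟩ = t := by
    have h := eta_fN (fC := fC) (fN := fN) E8Cent.t2 t2_N2 (mem_centralizer_singleton_iff.2 rfl)
    rw [D.center, L.eta_Q S D _ (Setup.na_mem setup2), one_mul] at h
    exact h.symm
  obtain ⟨d, hd, hd'⟩ : ∃ d : ↥C2, (d : ↥Spor.Co2) ∈ Q2 ∧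
      fC (k' * ⟨u * b, hUb⟩ * k'⁻¹) = fC (⟨u2, hu2.2⟩ * d) := by
    rw [e3, eta_fN (fC := fC) u2 hu2.1 hu2.2]
    rw [L.eta_comm S D _ (L.comm _), mul_assoc]
    have hti : t⁻¹ = t := inv_eq_of_mul_eq_one_right htt
    have hd1 : ((1 : ↥C2) : ↥Spor.Co2) ∈ Q2 := one_mem _
    rcases L.eta_cases S D ⟨u2, mem_HH2 hu2.1 hu2.2⟩ with e | e <;>
      rcases L.eta_cases S D ⟨u * b, mem_HH2 hUbN hUb⟩ with e' | e' <;> rw [e, e']
    · exact ⟨1, hd1, by simp⟩
    · exact ⟨_, Setup.na_mem setup2, by rw [map_mul, hft, one_mul, hti]⟩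
    · exact ⟨_, Setup.na_mem setup2, by rw [map_mul, hft, inv_one, mul_one]⟩
    · exact ⟨1, hd1, by simp⟩
  have h5 := L.fix S D (m := (⟨u2, hu2.2⟩ * d)⁻¹ * (k' * ⟨u * b, hUb⟩ * k'⁻¹)) (by
    rw [map_mul, map_inv, hd', inv_mul_cancel])
  have h6 : f2c ((⟨u2, hu2.2⟩ * d)⁻¹ * (k' * ⟨u * b, hUb⟩ * k'⁻¹)) = 1 := f2c_Q2 h5
  rw [map_mul, map_inv, map_mul, map_mul, map_mul, map_inv, f2c_Q2 hd, mul_one, inv_mul_eq_one] at h6
  refine hfix hUb hu2.2 ?_
  rw [← f2c_mk _ hUb, ← f2c_mk _ hu2.2, h6, nFix_conj]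

/-- **The centraliser side for a map of valid class.** -/
theorem exists_fC (S : Setup t Q) (D : NData t Q K fN) (hcls : Cls K2 K (fN.comp toN) true) :
    ∃ fC : ↥C2 →* G, Function.Injective fC ∧ fC.range = centralizer ({t} : Set G) ∧
      ∀ (a : ↥Spor.Co2) (hC : a ∈ C2) (hN : a ∈ N2), fC ⟨a, hC⟩ = fN ⟨a, hN⟩ := by
  obtain ⟨fC, L⟩ := D.exists_lift S hcls
  have hagree : ∀ (a : ↥Spor.Co2) (hC : a ∈ C2) (hN : a ∈ N2), fC ⟨a, hC⟩ = fN ⟨a, hN⟩ := fun a hC hN =>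
    (mul_inv_eq_one.1 (L.kill S D hcls ⟨a, mem_HH2 hN hC⟩)).symm
  refine ⟨fC, (injective_iff_map_eq_one _).2 fun m hm => ?_, ?_, hagree⟩
  · have h : fC m = fN ⟨(m : ↥Spor.Co2), Q2_le_N2 (L.fix S D hm)⟩ := hagree _ m.2 _
    have h' := D.inj (h.symm.trans (hm.trans (map_one fN).symm))
    exact Subtype.ext (congrArg (fun z : ↥N2 => (z : ↥Spor.Co2)) h')
  · refine le_antisymm ?_ fun y hy => ?_
    · rintro _ ⟨m, rfl⟩
      exact L.mem m
    · obtain ⟨m, rfl⟩ := L.range_eq S D hcls hy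
      exact ⟨m, rfl⟩

/-- **The two sides of the amalgam.** -/
theorem exists_sides (S : Setup t Q) (K : Coords t Q) (fN : ↥N2 →* G) (hinj : Function.Injective fN)
    (hrange : fN.range = normalizer (AA K : Set G)) (ht2 : fN ⟨E8Cent.t2, t2_N2⟩ = t)
    (hA : ∀ x : ↥N2, fN x ∈ AA K ↔ ∃ c : golayCode, incl2 (x : ↥Spor.Co2) = Leech.diag c) :
    ∃ (f : ↥N2 →* G) (fC : ↥C2 →* G), Function.Injective f ∧ f.range = normalizer (AA K : Set G) ∧
      f ⟨E8Cent.t2, t2_N2⟩ = t ∧ (∀ x : ↥N2, f x ∈ AA K ↔ (x : ↥Spor.Co2) ∈ A2) ∧ Function.Injective fC ∧ fC.range = centralizer ({t} : Set G) ∧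
      ∀ (a : ↥Spor.Co2) (hC : a ∈ C2) (hN : a ∈ N2), fC ⟨a, hC⟩ = f ⟨a, hN⟩ := by
  obtain ⟨f, D, hcls⟩ := (NData.mk hinj hrange ht2 hA).exists_valid S
  obtain ⟨fC, h1, h2, h3⟩ := exists_fC S D hcls
  exact ⟨f, fC, D.inj, D.range, D.center, D.abel, h1, h2, h3⟩

end Cfsg.Agent.Co2Recog.Side
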