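import Cfsg.Agent.Lib.Co2Recog.Side.Stab
import Mathlib.GroupTheory.PGroup

/-!
An isomorphism of the two centralisers inside the normalisers of the abelian subgroups carries the elementary
subgroup to the elementary subgroup; on the fixed space it is given by a Levi element.
-/

set_option autoImplicit false
set_option maxRecDepth 100000
set_option linter.unusedSectionVars false

noncomputable section

namespace Cfsg.Agent.Co2Recog.Side

open Equiv Subgroup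
open Cfsg.Agent.ThRec.Eight (act ap ap_xor ap_zero act_xor act_zero act_append)
open Cfsg.Agent.Co2Recog.NA

/-- The number of a vector of the fixed space. -/
def wi (v : ℕ) : ℕ :=
  bn (v.testBit 7) 1 ^^^ bn (v.testBit 1) 2 ^^^ bn (v.testBit 5) 4 ^^^ bn (v.testBit 3) 8

theorem wi_lt : ∀ v, wi v < 16 := fun v => by
  have h : ∀ a b c d : Bool, bn a 1 ^^^ bn b 2 ^^^ bn c 4 ^^^ bn d 8 < 16 := by decide +kernel
  exact h _ _ _ _

theorem wi_ew : ∀ i < 16, wi (ew i) = i := by decide +kernel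

theorem ew_wi {v : ℕ} (hv : v < 256) (h : inW v = true) : ew (wi v) = v := by
  obtain ⟨i, hi, rfl⟩ := w_enum v hv h
  rw [wi_ew i hi]

/-- An alternating form on the sixteen by six bits. -/
def bfm (b i k : ℕ) : Bool := par (Nat.land i (ap [frow b 0, frow b 1, frow b 2, frow b 3] k))

theorem bet_eq : ∀ i < 16, ∀ k < 16, bfm 48 i k = bet i k := by decide +kernel

theorem bet_add : ∀ i < 16, ∀ j < 16, ∀ k < 16, bet (i ^^^ j) k = (bet i k ^^ bet j k) := by decide +kernel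

theorem bet_alt : ∀ i < 16, ∀ k < 16, bet i i = false ∧ bet i k = bet k i := by decide +kernel

theorem bfm_add : ∀ b < 64, ∀ i < 16, ∀ j ∈ [1, 2, 4, 8], ∀ k < 16,
    bfm b (i ^^^ j) k = (bfm b i k ^^ bfm b j k) ∧ bfm b i k = bfm b k i := by
  decide +kernel

theorem bfm_unique : ∀ b < 64, (∀ j < 5, ∀ i ∈ [1, 2, 4, 8], ∀ k ∈ [1, 2, 4, 8],
    bfm b (ap (gW.getD j []) i) (ap (gW.getD j []) k) = bfm b i k) → b = 0 ∨ b = 48 := by
  decide +kernel

theorem sixteen_ind {P : ℕ → Prop} (h0 : P 0)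
    (hs : ∀ i < 16, ∀ j ∈ [1, 2, 4, 8], P i → P (i ^^^ j)) : ∀ i < 16, P i := by
  have key : ∀ i < 16, i = 0 ∨ ∃ j ∈ [1, 2, 4, 8], i ^^^ j < i := by decide +kernel
  intro i
  induction i using Nat.strong_induction_on with
  | _ i ih =>
    intro hi
    rcases key i hi with rfl | ⟨j, hj, hlt⟩
    · exact h0
    · have := hs _ (hlt.trans hi) j hj (ih _ hlt (hlt.trans hi))
      rwa [Nat.xor_assoc, Nat.xor_self, Nat.xor_zero] at this

theorem nonzero_transitive : ∀ x < 16, x ≠ 0 → ∀ y < 16, y ≠ 0 → ∃ u, Lev u ∧ wAct gW u x = y := by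
  intro x hx hx0 y hy hy0
  obtain ⟨a, ha, ea⟩ := rep_hit15 x hx hx0
  obtain ⟨b, hb, eb⟩ := rep_hit15 y hy hy0
  refine ⟨r15.getD b [] ++ (r15.getD a []).reverse,
    Lev.append (rep_lev.1 b hb) (Lev.reverse (rep_lev.1 a ha)), ?_⟩
  rw [wAct_append, ← ea, W_rev (rep_lev.1 a ha) (by norm_num), eb]

variable {G : Type*} [Group G] {t : G} {Q : Subgroup G}
variable (S : Setup t Q) (K : Coords t Q)
include S K

/-- An element of `Q` over a vector of the fixed space. -/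
def repE (i : Fin 16) : G := Classical.choose (exists_ew S K i.2)

theorem repE_spec (i : Fin 16) : repE S K i ∈ Q ∧ K.c (repE S K i) = ew i ∧ inW (K.c (repE S K i)) = true :=
  Classical.choose_spec (exists_ew S K i.2)

/-- The action on the sixteen. -/
def wmap (x : ↥(HH K)) (i : Fin 16) : Fin 16 :=
  ⟨wi (K.c ((x : G) * repE S K i * (x : G)⁻¹)), wi_lt _⟩

theorem wmap_spec (x : ↥(HH K)) {e : G} (he : e ∈ Q) (hW : inW (K.c e) = true) :
    K.c ((x : G) * e * (x : G)⁻¹) = ew (wmap S K x ⟨wi (K.c e), wi_lt _⟩) := by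
  obtain ⟨h1, h2, h3⟩ := repE_spec S K ⟨wi (K.c e), wi_lt _⟩
  obtain ⟨b, hb⟩ := Coord.eq_of_c S K he h1 (by rw [h2, ew_wi (K.c_lt e he) hW])
  show _ = ew (wi _)
  rw [ew_wi (K.c_lt _ (Setup.na_conj S x.2.1 h1)) (HH_keep S K x.2 h1 h3)]
  conv_lhs => rw [hb]
  rw [show (x : G) * (repE S K ⟨wi (K.c e), wi_lt _⟩ * tw t b) * (x : G)⁻¹ =
    (x : G) * repE S K ⟨wi (K.c e), wi_lt _⟩ * (x : G)⁻¹ * ((x : G) * tw t b * (x : G)⁻¹) by group,
    Setup.conj_tw S (mem_centralizer_singleton_iff.1 x.2.1), K.c_mul _ (Setup.na_conj S x.2.1 h1) _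
    (Setup.tw_mem S b), Coord.c_tw S K, Nat.xor_zero]

theorem wmap_mul (x y : ↥(HH K)) (i : Fin 16) : wmap S K (x * y) i = wmap S K x (wmap S K y i) := by
  obtain ⟨h1, h2, h3⟩ := repE_spec S K i
  have hy := Setup.na_conj S y.2.1 h1
  have e := wmap_spec S K x hy (HH_keep S K y.2 h1 h3)
  refine Fin.ext ?_
  show wi (K.c ((x : G) * (y : G) * repE S K i * ((x : G) * (y : G))⁻¹)) = _
  rw [show (x : G) * (y : G) * repE S K i * ((x : G) * (y : G))⁻¹ =
    (x : G) * ((y : G) * repE S K i * (y : G)⁻¹) * (x : G)⁻¹ by group, e, wi_ew _ (Fin.isLt _)]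
  rfl

theorem wmap_one (i : Fin 16) : wmap S K 1 i = i := by
  refine Fin.ext ?_
  show wi (K.c ((1 : G) * repE S K i * (1 : G)⁻¹)) = i
  rw [one_mul, inv_one, mul_one, (repE_spec S K i).2.1, wi_ew _ i.2]

/-- The action on the sixteen as a homomorphism. -/
def wperm : ↥(HH K) →* Perm (Fin 16) :=
  MonoidHom.mk' (fun x => ⟨wmap S K x, wmap S K x⁻¹,
    fun i => by rw [← wmap_mul, inv_mul_cancel, wmap_one],
    fun i => by rw [← wmap_mul, mul_inv_cancel, wmap_one]⟩) fun x y => Equiv.ext (wmap_mul S K x y)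

theorem wperm_word (x : ↥(HH K)) {u : List ℕ} (hu : Lev u) {b : ℕ} (hb : b < 64)
    (h : ∀ q ∈ Q, K.c ((x : G) * q * (x : G)⁻¹) = act sX (cwW u) (ap (alphaM b) (K.c q))) (i : Fin 16) :
    (wperm S K x i : ℕ) = wAct gW u i := by
  obtain ⟨h1, h2, -⟩ := repE_spec S K i
  show wi (K.c _) = _
  rw [h _ h1, h2, alpha_inW b hb i i.2, W_act hu i.2, wi_ew _ (W_lt hu i.2)]

theorem wperm_zero (x : ↥(HH K)) : wperm S K x 0 = 0 := by
  obtain ⟨u, ⟨a, ha, b, hb, c, hc, rfl⟩, m, hm, -, e⟩ := HH_word S K x.2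
  refine Fin.ext ?_
  rw [wperm_word S K x (repW_lev ha hb hc) (fWd_ok m hm).1 e]
  exact wAct_zero _ _

theorem wperm_bet (x : ↥(HH K)) (i k : Fin 16) : bet (wperm S K x i) (wperm S K x k) = bet i k := by
  obtain ⟨u, ⟨a, ha, b, hb, c, hc, rfl⟩, m, hm, -, e⟩ := HH_word S K x.2
  have hl := repW_lev ha hb hc
  rw [wperm_word S K x hl (fWd_ok m hm).1 e, wperm_word S K x hl (fWd_ok m hm).1 e, bet_act hl i.2 k.2]

theorem fix_iff (x : ↥(HH K)) : wperm S K x = 1 ↔ FixW K (x : G) := by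
  refine ⟨fun h => ⟨x.2.1, fun e he hW => ?_⟩, fun h => Equiv.ext fun i => Fin.ext ?_⟩
  · rw [wmap_spec S K x he hW, show wmap S K x ⟨wi (K.c e), wi_lt _⟩ = ⟨wi (K.c e), wi_lt _⟩ from
      Equiv.ext_iff.1 h _]
    exact ew_wi (K.c_lt e he) hW
  · obtain ⟨h1, h2, h3⟩ := repE_spec S K i
    show wi (K.c _) = (i : ℕ)
    rw [h.2 _ h1 h3, h2, wi_ew _ i.2]

theorem exists_lift_lev {u : List ℕ} (hu : Lev u) :
    ∃ g : ↥(HH K), (∀ i : Fin 16, (wperm S K g i : ℕ) = wAct gW u i) ∧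
      ∀ q ∈ Q, K.c ((g : G) * q * (g : G)⁻¹) = act sX (cwW u) (K.c q) := by
  obtain ⟨x, hx, hH, e⟩ := exists_hh_lift S K hu (m := 0) (by norm_num)
  have h0 : fWd 0 = [] := by decide +kernel
  have hc : ∀ q ∈ Q, K.c (x * q * x⁻¹) = act sX (cwW u) (K.c q) := fun q hq => by
    rw [K.act ⟨x, hx⟩ _ e.symm q hq, h0, List.append_nil]
  exact ⟨⟨x, hH⟩, wperm_word S K ⟨x, hH⟩ hu (b := 0) (by norm_num) fun q hq => by
    rw [alpha_id _ (K.c_lt q hq)]; exact hc q hq, hc⟩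

theorem Q_fix {q : G} (hq : q ∈ Q) : FixW K q :=
  ⟨S.le hq, fun e he _ => by rw [(frm_Q S hq).2 e he, alpha_id _ (K.c_lt e he)]⟩

theorem AA_fix {a : G} (ha : a ∈ AA K) : FixW K a :=
  ⟨AA_cent ha, fun e he hW => by rw [(mem_AA.1 ha).2 e he hW, mul_inv_cancel_right]⟩

theorem Q_le {q : G} (hq : q ∈ Q) : q ∈ HH K := (Q_fix S K hq).mem S K

theorem fix_pow {x : G} (h : FixW K x) : x ^ 8 = 1 := by
  obtain ⟨b, hb, -⟩ := h.form S K
  have h2 : x * x ∈ Q := mem_Q_of_frm (K := K) S (mul_mem h.1 h.1) (by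
    have := hb.mul S h.1 hb; rwa [Nat.xor_self] at this)
  have h4 := K.sq _ h2
  rw [show x ^ 8 = x * x * (x * x) * (x * x * (x * x)) by simp only [pow_succ, pow_zero, one_mul, mul_assoc],
    h4, Setup.tw_mul S, Bool.xor_self]
  rfl

theorem frm_inv {x : G} (hx : x ∈ centralizer {t}) {b : ℕ} (h : Frm K x b) : Frm K x⁻¹ b := by
  refine ⟨h.1, fun q hq => ?_⟩
  have hz := Setup.na_conj S (inv_mem hx) hq
  have e := h.2 _ hz
  rw [show x * (x⁻¹ * q * x⁻¹⁻¹) * x⁻¹ = q by group] at e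
  rw [e, alpha_comp h.1 h.1 (K.c_lt _ hz), Nat.xor_self, alpha_id _ (K.c_lt _ hz)]

/-- A commutator of a fixing element and an element of the abelian subgroup lies in the elementary subgroup. -/
theorem comm_E {x a : G} (hx : FixW K x) (ha : a ∈ AA K) :
    x * a * x⁻¹ * a⁻¹ ∈ Q ∧ inW (K.c (x * a * x⁻¹ * a⁻¹)) = true := by
  obtain ⟨b, hb, -⟩ := hx.form S K
  obtain ⟨b', hb', -⟩ := (AA_fix S K ha).form S K
  have hH := hx.mem S K
  have hA : x * a * x⁻¹ * a⁻¹ ∈ AA K := mul_mem ((mem_normalizer_iff.1 hH.2 a).1 ha) (inv_mem ha)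
  have hF := ((hb.mul S (AA_cent ha) hb').mul S (inv_mem hx.1) (frm_inv S K hx.1 hb)).mul S
    (inv_mem (AA_cent ha)) (frm_inv S K (AA_cent ha) hb')
  rw [show b ^^^ b' ^^^ b ^^^ b' = 0 by simp [Nat.xor_comm b b']] at hF
  have hQ := mem_Q_of_frm (K := K) S (AA_cent hA) hF
  exact ⟨hQ, AA_inter S hQ hA⟩

/-- A commutator outside the centre. -/
theorem exists_comm : ∃ x a, x ∈ Q ∧ a ∈ AA K ∧ K.c (x * a * x⁻¹ * a⁻¹) = ew 2 := by
  obtain ⟨a, ha, ea⟩ := exists_tv_lift S K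
  obtain ⟨x, hx, ex⟩ := exists_c S K (show fz 1 < 256 from (fz_facts 1 (by norm_num)).1)
  refine ⟨x, a, hx, ha, ?_⟩
  have h1 : a * x⁻¹ * a⁻¹ ∈ Q := Setup.na_conj S (AA_cent ha) (inv_mem hx)
  rw [show x * a * x⁻¹ * a⁻¹ = x * (a * x⁻¹ * a⁻¹) by group, K.c_mul _ hx _ h1,
    K.act ⟨a, AA_cent ha⟩ [0] (by rw [ea]; exact mul_one _) _ (inv_mem hx), Coord.c_inv S K hx, ex]
  decide +kernel

omit S K

variable {G' : Type*} [Group G'] {t' : G'} {Q' : Subgroup G'}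

/-- An isomorphism of the two centralisers inside the normalisers. -/
structure IsoH (K : Coords t Q) (K' : Coords t' Q') (h : ↥(HH K) →* G') : Prop where
  inj : Function.Injective h
  range : h.range = HH K'
  center : ∀ x : ↥(HH K), (x : G) = t → h x = t'
  abel : ∀ x : ↥(HH K), h x ∈ AA K' ↔ (x : G) ∈ AA K

namespace IsoH

variable {K : Coords t Q} {K' : Coords t' Q'} {h : ↥(HH K) →* G'}
variable (I : IsoH K K' h) (S : Setup t Q) (S' : Setup t' Q')
include I S S'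

theorem mem (x : ↥(HH K)) : h x ∈ HH K' := I.range ▸ ⟨x, rfl⟩

theorem map_t {ht : t ∈ HH K} : h ⟨t, ht⟩ = t' := I.center _ rfl

theorem map_tw (b : Bool) (hb : tw t b ∈ HH K) : h ⟨tw t b, hb⟩ = tw t' b := by
  cases b
  · exact map_one h
  · exact I.center _ rfl

/-- Fixing elements go to fixing elements. -/
theorem map_fix {x : ↥(HH K)} (hx : FixW K (x : G)) : FixW K' (h x) := by
  classical
  let hr : ↥(HH K) →* ↥(HH K') := h.codRestrict (HH K') (I.mem S S')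
  have hsurj : Function.Surjective hr := fun y => by
    obtain ⟨g, hg⟩ := (show (y : G') ∈ h.range by rw [I.range]; exact y.2)
    exact ⟨g, Subtype.ext hg⟩
  let N := (wperm S K).ker
  let ψ : ↥N →* Perm (Fin 16) := ((wperm S' K').comp hr).comp N.subtype
  have hp : IsPGroup 2 ↥N := fun n => ⟨3, Subtype.ext (Subtype.ext (by
    show (((n : ↥(HH K)) : G)) ^ 8 = 1
    exact fix_pow S K ((fix_iff S K _).1 (MonoidHom.mem_ker.1 n.2))))⟩
  let _inst : MulAction ↥N (Fin 16) := MulAction.compHom _ ψ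
  have h0 : (0 : Fin 16) ∈ MulAction.fixedPoints ↥N (Fin 16) := fun n => wperm_zero S' K' _
  obtain ⟨i, hi, hne⟩ := hp.exists_fixed_point_of_prime_dvd_card_of_fixed_point (Fin 16)
    (by rw [Nat.card_fin]; norm_num) h0
  have hall : ∀ n ∈ N, ∀ k, wperm S' K' (hr n) k = k := by
    intro n hn k
    by_cases hk : k = 0
    · subst hk; exact wperm_zero S' K' _
    obtain ⟨u, hu, eu⟩ := nonzero_transitive i i.2 (fun e => hne (Fin.ext e.symm)) k k.2 (fun e => hk (Fin.ext e))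
    obtain ⟨g', hg', -⟩ := exists_lift_lev S' K' hu
    obtain ⟨g, rfl⟩ := hsurj g'
    have ek : wperm S' K' (hr g) i = k := Fin.ext ((hg' i).trans eu)
    have hn' : g⁻¹ * n * g ∈ N := (MonoidHom.normal_ker _).conj_mem' n hn g
    have := hi ⟨_, hn'⟩
    change wperm S' K' (hr (g⁻¹ * n * g)) i = i at this
    rw [← ek, show n = g * (g⁻¹ * n * g) * g⁻¹ by group, map_mul hr, map_mul hr, map_mul, map_mul,
      map_inv hr, map_inv]
    simp only [Perm.mul_apply, Perm.inv_def, Equiv.symm_apply_apply, this]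
  exact (fix_iff S' K' (hr x)).1 (Equiv.ext (hall x ((fix_iff S K x).2 hx)))

/-- The elementary subgroup goes to the elementary subgroup. -/
theorem map_E {e : ↥(HH K)} (he : (e : G) ∈ Q) (hW : inW (K.c (e : G)) = true) :
    h e ∈ Q' ∧ inW (K'.c (h e)) = true := by
  obtain ⟨x, a, hx, ha, hc⟩ := exists_comm S K
  have hxH := Q_le S K hx
  have haH := (AA_fix S K ha).mem S K
  let c0 : ↥(HH K) := ⟨x, hxH⟩ * ⟨a, haH⟩ * ⟨x, hxH⟩⁻¹ * ⟨a, haH⟩⁻¹
  have hc0 : h c0 ∈ Q' ∧ inW (K'.c (h c0)) = true := by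
    rw [show h c0 = h ⟨x, hxH⟩ * h ⟨a, haH⟩ * (h ⟨x, hxH⟩)⁻¹ * (h ⟨a, haH⟩)⁻¹ by
      simp only [c0, map_mul, map_inv]]
    exact comm_E S' K' (I.map_fix S S' (Q_fix S K hx)) ((I.abel _).2 ha)
  by_cases h0 : K.c (e : G) = 0
  · rcases (K.c_ker _ he).1 h0 with h1 | h1
    · rw [show e = 1 from Subtype.ext h1, map_one]
      exact ⟨Q'.one_mem, by rw [Coord.c_one S' K']; rfl⟩
    · rw [I.center e h1]
      exact ⟨Setup.na_mem S', by rw [Coord.c_t S' K']; rfl⟩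
  · have hne : wi (K.c (e : G)) ≠ 0 := fun e0 => h0 (by
      rw [← ew_wi (K.c_lt _ he) hW, e0]; decide)
    obtain ⟨u, hu, eu⟩ := nonzero_transitive 2 (by norm_num) (by norm_num) _ (wi_lt _) hne
    obtain ⟨g, hg, -⟩ := exists_lift_lev S K hu
    have hcQ : (c0 : G) ∈ Q ∧ inW (K.c (c0 : G)) = true := comm_E S K (Q_fix S K hx) ha
    have hcv : K.c (c0 : G) = ew 2 := hc
    have e1 := wmap_spec S K g hcQ.1 hcQ.2
    have e2 : ((wperm S K g ⟨wi (K.c (c0 : G)), wi_lt _⟩ : Fin 16) : ℕ) = wi (K.c (e : G)) := by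
      rw [hg, Fin.val_mk, hcv, wi_ew 2 (by norm_num), eu]
    rw [show (wmap S K g ⟨wi (K.c (c0 : G)), wi_lt _⟩ : ℕ) = wi (K.c (e : G)) from e2,
      ew_wi (K.c_lt _ he) hW] at e1
    obtain ⟨b, hb⟩ := Coord.eq_of_c S K he (Setup.na_conj S g.2.1 hcQ.1) e1.symm
    have hbH : tw t b ∈ HH K := Q_le S K (Setup.tw_mem S b)
    rw [show e = g * c0 * g⁻¹ * ⟨tw t b, hbH⟩ from Subtype.ext hb, map_mul, map_mul, map_mul, map_inv,
      I.map_tw S S' b hbH]
    have hgH := I.mem S S' g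
    refine ⟨mul_mem (Setup.na_conj S' hgH.1 hc0.1) (Setup.tw_mem S' b), ?_⟩
    rw [K'.c_mul _ (Setup.na_conj S' hgH.1 hc0.1) _ (Setup.tw_mem S' b), Coord.c_tw S' K', Nat.xor_zero]
    exact HH_keep S' K' hgH hc0.1 hc0.2

/-- On the fixed space the isomorphism is a Levi element. -/
theorem exists_lev : ∃ u, Lev u ∧ ∀ e : ↥(HH K), (e : G) ∈ Q → inW (K.c (e : G)) = true →
    K'.c (h e) = act sX (cwW u) (K.c (e : G)) := by
  classical
  let eE : Fin 16 → ↥(HH K) := fun i => ⟨repE S K i, Q_le S K (repE_spec S K i).1⟩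
  let l : ℕ → ℕ := fun i => if hi : i < 16 then wi (K'.c (h (eE ⟨i, hi⟩))) else 0
  have lfin : ∀ i : Fin 16, l i = wi (K'.c (h (eE i))) := fun i => dif_pos i.2
  have llt : ∀ i < 16, l i < 16 := fun i hi => by rw [show l i = _ from dif_pos hi]; exact wi_lt _
  have lspec : ∀ e : ↥(HH K), (e : G) ∈ Q → inW (K.c (e : G)) = true →
      K'.c (h e) = ew (l (wi (K.c (e : G)))) := by
    intro e he hW
    obtain ⟨h1, h2, h3⟩ := repE_spec S K ⟨wi (K.c (e : G)), wi_lt _⟩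
    obtain ⟨b, hb⟩ := Coord.eq_of_c S K he h1 (by rw [h2, ew_wi (K.c_lt _ he) hW])
    have hbH : tw t b ∈ HH K := Q_le S K (Setup.tw_mem S b)
    obtain ⟨m1, m2⟩ := I.map_E S S' (e := eE ⟨wi (K.c (e : G)), wi_lt _⟩) h1 h3
    rw [show e = eE ⟨wi (K.c (e : G)), wi_lt _⟩ * ⟨tw t b, hbH⟩ from Subtype.ext hb, map_mul,
      I.map_tw S S' b hbH, K'.c_mul _ m1 _ (Setup.tw_mem S' b), Coord.c_tw S' K', Nat.xor_zero,
      Subgroup.coe_mul, K.c_mul _ h1 _ (Setup.tw_mem S b), Coord.c_tw S K, Nat.xor_zero, h2, wi_ew _ (wi_lt _),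
      show l (wi (K.c (e : G))) = wi (K'.c (h (eE ⟨wi (K.c (e : G)), wi_lt _⟩))) from dif_pos (wi_lt _),
      ew_wi (K'.c_lt _ m1) m2]
  have lx : ∀ i < 16, ∀ k < 16, l (i ^^^ k) = l i ^^^ l k := by
    intro i hi k hk
    obtain ⟨a1, a2, a3⟩ := repE_spec S K ⟨i, hi⟩
    obtain ⟨b1, b2, b3⟩ := repE_spec S K ⟨k, hk⟩
    have hm := mul_mem a1 b1
    have hc : K.c (repE S K ⟨i, hi⟩ * repE S K ⟨k, hk⟩) = ew (i ^^^ k) := by
      rw [K.c_mul _ a1 _ b1, a2, b2, ew_xor]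
    have e := lspec (eE ⟨i, hi⟩ * eE ⟨k, hk⟩) hm (by
      show inW (K.c (_ * _)) = true
      rw [hc]; exact (ew_mem _ (lt4 hi hk)).1)
    rw [map_mul, K'.c_mul _ (I.map_E S S' (e := eE ⟨i, hi⟩) a1 a3).1 _
      (I.map_E S S' (e := eE ⟨k, hk⟩) b1 b3).1, lspec (eE ⟨i, hi⟩) a1 a3, lspec (eE ⟨k, hk⟩) b1 b3,
      show ((eE ⟨i, hi⟩ : ↥(HH K)) : G) = repE S K ⟨i, hi⟩ from rfl,
      show ((eE ⟨k, hk⟩ : ↥(HH K)) : G) = repE S K ⟨k, hk⟩ from rfl, a2, b2,
      show ((eE ⟨i, hi⟩ * eE ⟨k, hk⟩ : ↥(HH K)) : G) = repE S K ⟨i, hi⟩ * repE S K ⟨k, hk⟩ from rfl, hc,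
      wi_ew _ hi, wi_ew _ hk, wi_ew _ (lt4 hi hk), ← ew_xor] at e
    exact (ew_inj _ (lt4 (llt i hi) (llt k hk)) _ (llt _ (lt4 hi hk)) e).symm
  have linj : ∀ i < 16, l i = 0 → i = 0 := by
    intro i hi e0
    obtain ⟨a1, a2, a3⟩ := repE_spec S K ⟨i, hi⟩
    have e := lspec (eE ⟨i, hi⟩) a1 a3
    rw [show ((eE ⟨i, hi⟩ : ↥(HH K)) : G) = repE S K ⟨i, hi⟩ from rfl, a2, wi_ew _ hi, e0,
      show ew 0 = 0 from by decide] at e
    have hk : K.c (repE S K ⟨i, hi⟩) = 0 := by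
      rcases (K'.c_ker _ (I.map_E S S' (e := eE ⟨i, hi⟩) a1 a3).1).1 e with e' | e'
      · rw [show repE S K ⟨i, hi⟩ = 1 from congrArg Subtype.val (I.inj (e'.trans (map_one h).symm))]
        exact Coord.c_one S K
      · have ht : t ∈ HH K := Q_le S K (Setup.na_mem S)
        rw [show repE S K ⟨i, hi⟩ = t from congrArg Subtype.val (I.inj (e'.trans (I.map_t S S' (ht := ht)).symm))]
        exact Coord.c_t S K
    rw [a2] at hk
    exact (wi_ew _ hi).symm.trans (by rw [hk]; decide)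
  -- the pulled back form
  let B : ℕ → ℕ → Bool := fun i k => bet (l i) (l k)
  let b := bn (B 1 4) 1 ^^^ bn (B 1 8) 2 ^^^ bn (B 2 4) 4 ^^^ bn (B 2 8) 8 ^^^ bn (B 1 2) 16 ^^^ bn (B 4 8) 32
  have key : ∀ c0 c1 c2 c3 c4 c5 : Bool,
      let v := bn c0 1 ^^^ bn c1 2 ^^^ bn c2 4 ^^^ bn c3 8 ^^^ bn c4 16 ^^^ bn c5 32
      v < 64 ∧ bfm v 1 4 = c0 ∧ bfm v 1 8 = c1 ∧ bfm v 2 4 = c2 ∧ bfm v 2 8 = c3 ∧ bfm v 1 2 = c4 ∧
        bfm v 4 8 = c5 ∧ bfm v 1 1 = false ∧ bfm v 2 2 = false ∧ bfm v 4 4 = false ∧ bfm v 8 8 = false ∧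
        ∀ k < 16, bfm v 0 k = false := by
    decide +kernel
  obtain ⟨hb64, k14, k18, k24, k28, k12, k48, k11, k22, k44, k88, k0⟩ :=
    key (B 1 4) (B 1 8) (B 2 4) (B 2 8) (B 1 2) (B 4 8)
  have hbz : ∀ k < 16, bet 0 k = false := by decide +kernel
  have l0 : l 0 = 0 := by
    have := lx 0 (by norm_num) 0 (by norm_num)
    rwa [Nat.xor_self, Nat.xor_self] at this
  have Bsym : ∀ i < 16, ∀ k < 16, B i k = B k i := fun i hi k hk => (bet_alt _ (llt i hi) _ (llt k hk)).2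
  have hbas : ∀ i ∈ [1, 2, 4, 8], ∀ k ∈ [1, 2, 4, 8], bfm b i k = B i k := by
    intro i hi k hk
    simp only [List.mem_cons, List.not_mem_nil, or_false] at hi hk
    have hd : ∀ i < 16, B i i = false := fun i hi => (bet_alt _ (llt i hi) _ (llt i hi)).1
    have hs : ∀ i < 16, ∀ k < 16, (i = 1 ∨ i = 2 ∨ i = 4 ∨ i = 8) → bfm b i k = B i k →
        (k = 1 ∨ k = 2 ∨ k = 4 ∨ k = 8) → bfm b k i = B k i := fun i hi k hk hi' e _ => by
      rw [← (bfm_add b hb64 i hi 1 (by simp) k hk).2, e, Bsym i hi k hk]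
    rcases hi with rfl | rfl | rfl | rfl <;> rcases hk with rfl | rfl | rfl | rfl
    exacts [k11.trans (hd 1 (by norm_num)).symm, k12, k14, k18,
      hs 1 (by norm_num) 2 (by norm_num) (by omega) k12 (by omega), k22.trans (hd 2 (by norm_num)).symm, k24, k28,
      hs 1 (by norm_num) 4 (by norm_num) (by omega) k14 (by omega),
      hs 2 (by norm_num) 4 (by norm_num) (by omega) k24 (by omega), k44.trans (hd 4 (by norm_num)).symm, k48,
      hs 1 (by norm_num) 8 (by norm_num) (by omega) k18 (by omega),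
      hs 2 (by norm_num) 8 (by norm_num) (by omega) k28 (by omega),
      hs 4 (by norm_num) 8 (by norm_num) (by omega) k48 (by omega), k88.trans (hd 8 (by norm_num)).symm]
  have j16 : ∀ j ∈ [1, 2, 4, 8], j < 16 := by decide
  have hB : ∀ i < 16, ∀ k < 16, bfm b i k = B i k := by
    have h1 : ∀ j ∈ [1, 2, 4, 8], ∀ i < 16, bfm b i j = B i j := fun j hj =>
      sixteen_ind (by show _ = bet (l 0) (l j); rw [k0 j (j16 j hj), l0, hbz _ (llt j (j16 j hj))])
        fun i hi j' hj' e => by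
          show _ = bet (l (i ^^^ j')) (l j)
          rw [(bfm_add b hb64 i hi j' hj' j (j16 j hj)).1, lx i hi j' (j16 j' hj'),
            bet_add _ (llt i hi) _ (llt j' (j16 j' hj')) _ (llt j (j16 j hj)), e, hbas j' hj' j hj]
    intro i hi k hk
    revert i
    refine sixteen_ind (by show _ = bet (l 0) (l k); rw [k0 k hk, l0, hbz _ (llt k hk)]) fun i hi j hj e => ?_
    show _ = bet (l (i ^^^ j)) (l k)
    rw [(bfm_add b hb64 i hi j hj k hk).1, lx i hi j (j16 j hj),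
      bet_add _ (llt i hi) _ (llt j (j16 j hj)) _ (llt k hk), e]
    congr 1
    rw [← (bfm_add b hb64 k hk 1 (by simp) j (j16 j hj)).2, h1 j hj k hk, Bsym k hk j (j16 j hj)]
  -- its invariance
  have hinv : ∀ j < 5, ∀ i < 16, ∀ k < 16, B (ap (gW.getD j []) i) (ap (gW.getD j []) k) = B i k := by
    intro j hj
    obtain ⟨g, hg, -⟩ := exists_lift_lev S K (u := [j]) (fun x hx => by rw [List.mem_singleton.1 hx]; exact hj)
    have hcomm : ∀ i : Fin 16, l (wperm S K g i) = wperm S' K' ⟨h g, I.mem S S' g⟩ ⟨l i, llt i i.2⟩ := by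
      intro i
      obtain ⟨a1, a2, a3⟩ := repE_spec S K i
      have e := lspec (g * eE i * g⁻¹) (Setup.na_conj S g.2.1 a1) (HH_keep S K g.2 a1 a3)
      obtain ⟨m1, m2⟩ := I.map_E S S' (e := eE i) a1 a3
      have e' := wmap_spec S' K' ⟨h g, I.mem S S' g⟩ m1 m2
      rw [map_mul, map_mul, map_inv, e'] at e
      have e3 := ew_inj _ (Fin.isLt _) _ (llt _ (wi_lt _)) e
      rw [show (wperm S K g i : ℕ) = wi (K.c ((g : G) * repE S K i * (g : G)⁻¹)) from rfl]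
      refine e3.symm.trans ?_
      congr 2
      exact Fin.ext (lfin i).symm
    intro i hi k hk
    have ei : (wperm S K g ⟨i, hi⟩ : ℕ) = ap (gW.getD j []) i := hg _
    have ek : (wperm S K g ⟨k, hk⟩ : ℕ) = ap (gW.getD j []) k := hg _
    show bet _ _ = bet _ _
    rw [← ei, ← ek, hcomm, hcomm, wperm_bet]
  have b48 : b = 48 := by
    rcases bfm_unique b hb64 fun j hj i hi k hk => by
      rw [hB _ (gen_W j hj i (j16 i hi)).2.1 _ (gen_W j hj k (j16 k hk)).2.1, hB _ (j16 i hi) _ (j16 k hk),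
        hinv j hj _ (j16 i hi) _ (j16 k hk)] with e | e
    · exfalso
      have inj : Function.Injective fun i : Fin 16 => (⟨l i, llt i i.2⟩ : Fin 16) := by
        intro i k eq
        have : l ((i : ℕ) ^^^ k) = 0 := by
          rw [lx i i.2 k k.2, show l i = l k from congrArg Fin.val eq, Nat.xor_self]
        exact Fin.ext (Nat.xor_eq_zero_iff.1 (linj _ (lt4 i.2 k.2) this))
      obtain ⟨i, ei⟩ := (Finite.injective_iff_surjective.1 inj) 1
      obtain ⟨k, ek⟩ := (Finite.injective_iff_surjective.1 inj) 2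
      have := hB i i.2 k k.2
      rw [e] at this
      change bfm 0 i k = bet (l i) (l k) at this
      rw [show l i = 1 from congrArg Fin.val ei, show l k = 2 from congrArg Fin.val ek, bet_facts.1] at this
      have z : ∀ i < 16, ∀ k < 16, bfm 0 i k = false := by decide +kernel
      rw [z i i.2 k k.2] at this
      exact Bool.false_ne_true this
    · exact e
  obtain ⟨u, hu, eu⟩ := exists_rep llt lx fun i hi k hk => by
    show B i k = _
    rw [← hB i hi k hk, b48, bet_eq i hi k hk]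
  refine ⟨u, hu, fun e he hW => ?_⟩
  rw [lspec e he hW]
  conv_rhs => rw [← ew_wi (K.c_lt _ he) hW]
  rw [W_act hu (wi_lt _), eu _ (wi_lt _)]

end IsoH

end Cfsg.Agent.Co2Recog.Side
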