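import Mathlib.Data.List.Basic

/-!
Tables for the stabiliser of the first transvection on the spin module: the Levi complement as words in five
generators, transversals and spanning commutators.
-/

set_option autoImplicit false
set_option maxRecDepth 100000

namespace Cfsg.Agent.Co2Recog.Side

/-- The five Levi transvections on the fixed space, by the numbers of its vectors. -/
def gW : List (List ℕ) :=
    [[1, 10, 5, 8], [5, 2, 4, 10], [1, 14, 5, 9], [9, 2, 6, 8], [1, 6, 4, 9]]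

/-- The five Levi transvections on the quotient by the fixed space. -/
def gZ : List (List ℕ) :=
    [[5, 2, 4, 10], [1, 10, 5, 8], [13, 2, 6, 10], [1, 6, 4, 9], [9, 2, 6, 8]]

/-- The five Levi transvections on the polar forms. -/
def cjT : List (List ℕ) :=
    [[1, 2, 54, 8, 18, 34], [1, 54, 4, 8, 20, 36], [1, 2, 55, 59, 19, 35], [57, 2, 4, 8, 24, 40],
    [1, 2, 4, 57, 17, 33]]

/-- The invariant alternating form on the fixed space, by rows. -/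
def bM : List ℕ :=
    [2, 1, 8, 4]

/-- Levi elements carrying the first generator to each of the five. -/
def conjU : List (List ℕ) :=
    [[], [0, 1], [1, 2, 0, 1], [2, 3, 1, 2, 0, 1], [3, 4, 2, 3, 1, 2, 0, 1]]

/-- Commutators spanning the spin module: generator and basis vector. -/
def vBas : List (ℕ × ℕ) :=
    [(0, 0), (0, 1), (0, 4), (0, 5), (1, 2), (1, 3), (1, 6), (1, 7)]

/-- Commutators spanning the forms: generator and form. -/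
def uBas : List (ℕ × ℕ) :=
    [(0, 4), (1, 2), (2, 4), (3, 1), (4, 8)]

/-- Levi elements fixing the first point of the quotient. -/
def stabU : List (List ℕ) :=
    [[1], [3], [2, 1, 3, 2], [0, 1, 2, 4, 1, 0]]

/-- Levi elements from the first point of the quotient. -/
def zPath : List (ℕ × List ℕ) :=
    [(2, [3, 2, 1, 0]), (3, [1, 2, 0]), (4, [1, 0]), (8, [3, 4])]

/-- A transversal for the first vector of a symplectic basis. -/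
def r15 : List (List ℕ) :=
    [[], [4, 3, 0, 1], [2, 3, 1], [0, 1], [1], [3, 0, 1], [1, 2, 3, 1], [2, 3], [3], [4, 3, 1], [2,
    3, 0, 1], [0, 1, 2, 3, 0, 1], [1, 2, 3, 0, 1], [4, 2, 3, 0, 1], [3, 1]]

/-- A transversal for the second vector. -/
def r8 : List (List ℕ) :=
    [[], [4, 2, 0], [4], [2, 0], [0], [4, 2], [2], [4, 0]]

/-- A transversal for the last two vectors. -/
def r6 : List (List ℕ) :=
    [[], [4, 0, 1, 2, 0, 1, 0], [0, 1, 2, 3, 4, 0, 1, 2, 3, 0, 1, 2, 0, 1, 0], [1, 2, 3, 4, 0, 1, 2,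
    3], [3, 4, 2, 3, 1, 2, 0, 1], [2, 3, 4, 2, 3, 2, 0]]

/-- Words moving the centre of the first transvection to each of the 63 points. -/
def ptW : List (List ℕ) :=
    [[], [3, 4, 2, 3, 1, 2, 6, 5, 4, 3, 2, 1], [1, 2, 0, 1], [6, 2, 3, 1, 2, 6, 4, 3, 2, 1], [6, 5,
    4, 3, 1, 2, 0, 1], [3, 4, 2, 3, 1, 2, 0, 1], [1, 2, 6, 5, 4, 3, 2, 1], [0, 1], [1], [2, 1], [2,
    0, 1], [6, 5, 4, 3, 2, 1], [6, 5, 4, 3, 2, 0, 1], [2, 6, 5, 4, 3, 2, 0, 1], [2, 6, 5, 4, 3, 2,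
    1], [2, 3, 1, 2, 0, 1], [4, 3, 1, 2, 6, 5, 4, 3, 2, 1], [4, 2, 3, 1, 2, 6, 5, 4, 3, 2, 1], [3,
    1, 2, 0, 1], [2, 3, 1, 2, 6, 5, 4, 3, 2, 1], [4, 3, 1, 2, 0, 1], [4, 2, 3, 1, 2, 0, 1], [3, 1,
    2, 6, 5, 4, 3, 2, 1], [4, 3, 2, 6, 5, 4, 3, 2, 0, 1], [4, 3, 2, 6, 5, 4, 3, 2, 1], [3, 2, 1],
    [3, 2, 0, 1], [4, 3, 2, 1], [4, 3, 2, 0, 1], [3, 2, 6, 5, 4, 3, 2, 0, 1], [3, 2, 6, 5, 4, 3, 2,
    1], [4, 5, 3, 4, 2, 3, 1, 2, 0, 1], [1, 2, 6, 3, 2, 1], [6, 4, 2, 3, 1, 2, 6, 5, 4, 3, 2, 1],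
    [6, 3, 1, 2, 0, 1], [6, 2, 3, 1, 2, 6, 5, 4, 3, 2, 1], [6, 4, 3, 1, 2, 0, 1], [5, 3, 4, 2, 3, 1,
    2, 0, 1], [1, 2, 6, 4, 3, 2, 1], [2, 6, 3, 2, 0, 1], [2, 6, 3, 2, 1], [6, 3, 2, 1], [6, 3, 2, 0,
    1], [6, 4, 3, 2, 1], [6, 4, 3, 2, 0, 1], [2, 6, 4, 3, 2, 0, 1], [2, 6, 4, 3, 2, 1], [2, 6, 1, 2,
    0, 1], [2, 6, 3, 4, 2, 3, 1, 2, 6, 5, 4, 3, 2, 1], [6, 3, 4, 2, 3, 1, 2, 6, 5, 4, 3, 2, 1], [6,
    1, 2, 0, 1], [2, 3, 1, 2, 6, 4, 3, 2, 1], [5, 4, 3, 1, 2, 0, 1], [5, 4, 2, 3, 1, 2, 0, 1], [3,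
    1, 2, 6, 4, 3, 2, 1], [0, 1, 2, 6, 3, 4, 2, 3, 1, 2, 6, 5, 4, 3, 2, 1], [1, 2, 6, 3, 4, 2, 3, 1,
    2, 6, 5, 4, 3, 2, 1], [6, 2, 1], [6, 2, 0, 1], [5, 4, 3, 2, 1], [5, 4, 3, 2, 0, 1], [3, 2, 6, 4,
    3, 2, 0, 1], [3, 2, 6, 4, 3, 2, 1]]

end Cfsg.Agent.Co2Recog.Side
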