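import Cfsg.Agent.Lib.Co2Recog.NA.Abel
import Cfsg.Agent.Lib.Co2Recog.Elt
import Cfsg.Agent.Lib.Co2Recog.Side.LeviData

/-!
The Levi complement of the stabiliser of the first transvection: words in five generators acting on the fixed
space, on the quotient by it and on the polar forms.
-/

set_option autoImplicit false
set_option maxRecDepth 100000

namespace Cfsg.Agent.Co2Recog.Side

open Cfsg.Agent.ThRec.Eight (act ap ap_xor ap_zero act_xor act_zero act_append)
open Cfsg.Agent.Co2Recog.NA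

/-- A word in the five generators as a word in the seven transvections. -/
def cwW (u : List ℕ) : List ℕ := u.flatMap cw

/-- A word of indices of the five generators. -/
def Lev (u : List ℕ) : Prop := ∀ j ∈ u, j < 5

/-- A word through a table. -/
def wAct (T : List (List ℕ)) : List ℕ → ℕ → ℕ
  | [], i => i
  | j :: u, i => ap (T.getD j []) (wAct T u i)

/-- The invariant form on the fixed space. -/
def bet (i k : ℕ) : Bool := par (Nat.land i (ap bM k))

theorem lev_nil : Lev [] := fun _ h => absurd h List.not_mem_nil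

theorem Lev.append {u v : List ℕ} (hu : Lev u) (hv : Lev v) : Lev (u ++ v) := fun j hj =>
  (List.mem_append.1 hj).elim (hu j) (hv j)

theorem Lev.reverse {u : List ℕ} (hu : Lev u) : Lev u.reverse := fun j hj => hu j (List.mem_reverse.1 hj)

theorem Lev.head {u : List ℕ} {j : ℕ} (hu : Lev (j :: u)) : j < 5 := hu j List.mem_cons_self

theorem Lev.tail {u : List ℕ} {j : ℕ} (hu : Lev (j :: u)) : Lev u := fun k hk => hu k (List.mem_cons_of_mem _ hk)

theorem cwW_cons (j : ℕ) (u : List ℕ) : cwW (j :: u) = cw j ++ cwW u := by simp [cwW]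

theorem cwW_append (u v : List ℕ) : cwW (u ++ v) = cwW u ++ cwW v := by simp [cwW]

theorem wAct_append (T : List (List ℕ)) : ∀ u v i, wAct T (u ++ v) i = wAct T u (wAct T v i)
  | [], _, _ => rfl
  | j :: u, v, i => by rw [List.cons_append, wAct, wAct, wAct_append T u v i]

theorem wAct_xor (T : List (List ℕ)) : ∀ u i k, wAct T u (i ^^^ k) = wAct T u i ^^^ wAct T u k
  | [], _, _ => rfl
  | j :: u, i, k => by rw [wAct, wAct, wAct, wAct_xor T u i k, ap_xor]

theorem wAct_zero (T : List (List ℕ)) : ∀ u, wAct T u 0 = 0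
  | [] => rfl
  | j :: u => by rw [wAct, wAct_zero T u, ap_zero]

theorem gen_W : ∀ j < 5, ∀ i < 16, act sX (cw j) (ew i) = ew (ap (gW.getD j []) i) ∧
    ap (gW.getD j []) i < 16 ∧ ap (gW.getD j []) (ap (gW.getD j []) i) = i := by
  decide +kernel

theorem gen_Z : ∀ j < 5, ∀ k < 8, xc (act sX (cw j) (2 ^ k)) = ap (gZ.getD j []) (xc (2 ^ k)) := by
  decide +kernel

theorem gen_Zlt : ∀ j < 5, ∀ z < 16, ap (gZ.getD j []) z < 16 := by
  decide +kernel

theorem gen_F : ∀ j < 5, ∀ b < 64, ap (cjT.getD j []) b < 64 ∧ validF (ap (cjT.getD j []) b) = validF b ∧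
    ∀ k < 8, act sX (cw j) (ap (alphaM b) (2 ^ k)) = ap (alphaM (ap (cjT.getD j []) b)) (act sX (cw j) (2 ^ k)) := by
  decide +kernel

theorem gen_bet : ∀ j < 5, ∀ i < 16, ∀ k < 16,
    bet (ap (gW.getD j []) i) (ap (gW.getD j []) k) = bet i k := by
  decide +kernel

theorem W_lt {u : List ℕ} (hu : Lev u) {i : ℕ} (hi : i < 16) : wAct gW u i < 16 := by
  induction u with
  | nil => exact hi
  | cons j u ih => exact (gen_W j hu.head _ (ih hu.tail)).2.1

/-- The action on the fixed space. -/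
theorem W_act {u : List ℕ} (hu : Lev u) {i : ℕ} (hi : i < 16) :
    act sX (cwW u) (ew i) = ew (wAct gW u i) := by
  induction u with
  | nil => rfl
  | cons j u ih => rw [cwW_cons, act_append, ih hu.tail, (gen_W j hu.head _ (W_lt hu.tail hi)).1, wAct]

/-- The action on the quotient. -/
theorem Z_act {u : List ℕ} (hu : Lev u) {v : ℕ} (hv : v < 256) :
    xc (act sX (cwW u) v) = wAct gZ u (xc v) := by
  induction u with
  | nil => rfl
  | cons j u ih =>
    rw [cwW_cons, act_append, wAct, ← ih hu.tail]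
    refine ext8 (f := fun v => xc (act sX (cw j) v)) (g := fun v => ap (gZ.getD j []) (xc v))
      (fun _ _ _ _ => ?_) (fun _ _ _ _ => ?_) (fun k hk => gen_Z j hu.head k hk) (act_lt _ hv)
    · simp only [act_xor, xc_xor]
    · simp only [xc_xor, ap_xor]

theorem Z_lt {u : List ℕ} (hu : Lev u) {z : ℕ} (hz : z < 16) : wAct gZ u z < 16 := by
  induction u with
  | nil => exact hz
  | cons j u ih => exact gen_Zlt j hu.head _ (ih hu.tail)

/-- The action on the forms. -/
theorem F_act {u : List ℕ} (hu : Lev u) {b : ℕ} (hb : b < 64) :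
    wAct cjT u b < 64 ∧ validF (wAct cjT u b) = validF b ∧ ∀ v < 256,
      act sX (cwW u) (ap (alphaM b) v) = ap (alphaM (wAct cjT u b)) (act sX (cwW u) v) := by
  induction u with
  | nil => exact ⟨hb, rfl, fun v _ => rfl⟩
  | cons j u ih =>
    obtain ⟨h1, h2, h3⟩ := ih hu.tail
    obtain ⟨g1, g2, g3⟩ := gen_F j hu.head _ h1
    refine ⟨g1, g2.trans h2, fun v hv => ?_⟩
    rw [cwW_cons, act_append, act_append, h3 v hv]
    refine ext8 (f := fun w => act sX (cw j) (ap (alphaM (wAct cjT u b)) w))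
      (g := fun w => ap (alphaM (wAct cjT (j :: u) b)) (act sX (cw j) w))
      (fun _ _ _ _ => ?_) (fun _ _ _ _ => ?_) g3 (act_lt _ hv)
    · simp only [ap_xor, act_xor]
    · simp only [act_xor, ap_xor]

theorem bet_act {u : List ℕ} (hu : Lev u) {i k : ℕ} (hi : i < 16) (hk : k < 16) :
    bet (wAct gW u i) (wAct gW u k) = bet i k := by
  induction u with
  | nil => rfl
  | cons j u ih => rw [wAct, wAct, gen_bet j hu.head _ (W_lt hu.tail hi) _ (W_lt hu.tail hk), ih hu.tail]

theorem W_rev {u : List ℕ} (hu : Lev u) {i : ℕ} (hi : i < 16) : wAct gW u.reverse (wAct gW u i) = i := by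
  induction u with
  | nil => rfl
  | cons j u ih =>
    rw [List.reverse_cons, wAct_append, wAct, wAct, wAct, (gen_W j hu.head _ (W_lt hu.tail hi)).2.2, ih hu.tail]

theorem alpha_inW : ∀ b < 64, ∀ i < 16, ap (alphaM b) (ew i) = ew i := by decide +kernel

theorem alpha_xc : ∀ b < 64, ∀ k < 8, xc (ap (alphaM b) (2 ^ k)) = xc (2 ^ k) := by decide +kernel

theorem alpha_lt8 {b : ℕ} (hb : b < 64) {v : ℕ} (hv : v < 256) : ap (alphaM b) v < 256 := by
  have h : ∀ b < 64, ∀ c ∈ alphaM b, c < 256 := by decide +kernel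
  exact ThRec.Eight.ap_lt (n := 8) (h b hb) v

theorem alpha_comp {a b : ℕ} (ha : a < 64) (hb : b < 64) {v : ℕ} (hv : v < 256) :
    ap (alphaM a) (ap (alphaM b) v) = ap (alphaM (a ^^^ b)) v :=
  ext8 (f := fun v => ap (alphaM a) (ap (alphaM b) v)) (fun _ _ _ _ => by simp only [ap_xor])
    (fun _ _ _ _ => ap_xor _ _ _) (fun k hk => alpha_mul a ha b hb k hk) hv

theorem alpha_inj {a b : ℕ} (ha : a < 64) (hb : b < 64)
    (h : ∀ v < 256, ap (alphaM a) v = ap (alphaM b) v) : a = b := by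
  refine frow_inj a ha b hb fun i hi => ?_
  have r := alpha_read a ha i hi
  have r' := alpha_read b hb i hi
  refine ew_inj _ r.2 _ r'.2 ?_
  rw [← r.1, ← r'.1, h _ (fz_facts _ (Nat.pow_lt_pow_right (m := i) (n := 4) (by norm_num) hi)).1]

theorem validF_xor {a b : ℕ} : validF (a ^^^ b) = (validF a == validF b) := by
  simp only [validF, Nat.testBit_xor]
  cases a.testBit 4 <;> cases a.testBit 5 <;> cases b.testBit 4 <;> cases b.testBit 5 <;> rfl

/-! ### Words for the valid forms -/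

/-- A word acting as a valid form. -/
def fWd (m : ℕ) : List ℕ := (List.range 5).flatMap fun i => cond (m.testBit i) (formW.getD i ([], 0)).1 []

theorem fWd_ok : ∀ m < 32, formB m < 64 ∧ validF (formB m) = true ∧
    ∀ k < 8, act sX (fWd m) (2 ^ k) = ap (alphaM (formB m)) (2 ^ k) := by
  decide +kernel

theorem formB_inj : ∀ m < 32, ∀ m' < 32, formB m = formB m' → m = m' := by decide +kernel

theorem fWd_act {m : ℕ} (hm : m < 32) {v : ℕ} (hv : v < 256) :
    act sX (fWd m) v = ap (alphaM (formB m)) v :=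
  ext8 (fun _ _ _ _ => act_xor sX _ _ _) (fun _ _ _ _ => ap_xor _ _ _) (fWd_ok m hm).2.2 hv

theorem exists_form_word {b : ℕ} (hb : b < 64) (hv : validF b = true) :
    ∃ w, ∀ v < 256, act sX w v = ap (alphaM b) v := by
  obtain ⟨m, hm, rfl⟩ := form_span b hb hv
  exact ⟨fWd m, fun v h => fWd_act hm h⟩

/-! ### The transversals -/

/-- The representative of three indices. -/
def repW (a b c : ℕ) : List ℕ := r15.getD a [] ++ (r8.getD b [] ++ r6.getD c [])

theorem rep_lev : (∀ a < 15, ∀ j ∈ r15.getD a [], j < 5) ∧ (∀ b < 8, ∀ j ∈ r8.getD b [], j < 5) ∧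
    (∀ c < 6, ∀ j ∈ r6.getD c [], j < 5) := by
  decide +kernel

theorem rep_fix : (∀ b < 8, wAct gW (r8.getD b []) 1 = 1) ∧
    (∀ c < 6, wAct gW (r6.getD c []) 1 = 1 ∧ wAct gW (r6.getD c []) 2 = 2) := by
  decide +kernel

theorem rep_hit15 : ∀ x < 16, x ≠ 0 → ∃ a < 15, wAct gW (r15.getD a []) 1 = x := by decide +kernel

theorem rep_hit8 : ∀ x < 16, bet 1 x = true → ∃ b < 8, wAct gW (r8.getD b []) 2 = x := by decide +kernel

theorem rep_hit6 (x : ℕ) (hx : x < 16) (y : ℕ) (hy : y < 16) (h1 : bet 1 x = false) (h2 : bet 2 x = false)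
    (h3 : bet 1 y = false) (h4 : bet 2 y = false) (h5 : bet x y = true) :
    ∃ c < 6, wAct gW (r6.getD c []) 4 = x ∧ wAct gW (r6.getD c []) 8 = y := by
  have h : ((List.range 16).all fun x => (List.range 16).all fun y =>
      bet 1 x || bet 2 x || bet 1 y || bet 2 y || !bet x y ||
        (List.range 6).any fun c => Nat.beq (wAct gW (r6.getD c []) 4) x && Nat.beq (wAct gW (r6.getD c []) 8) y)
      = true := by decide +kernel
  have h' := List.all_eq_true.1 (List.all_eq_true.1 h x (List.mem_range.2 hx)) y (List.mem_range.2 hy)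
  simp only [h1, h2, h3, h4, h5, Bool.false_or, Bool.not_true, List.any_eq_true, List.mem_range,
    Bool.and_eq_true, Nat.beq_eq] at h'
  obtain ⟨c, hc, e1, e2⟩ := h'
  exact ⟨c, hc, e1, e2⟩

theorem bet_facts : bet 1 2 = true ∧ bet 4 8 = true ∧ bet 1 4 = false ∧ bet 2 4 = false ∧ bet 1 8 = false ∧
    bet 2 8 = false ∧ bet 1 1 = false := by
  decide +kernel

theorem repW_lev {a b c : ℕ} (ha : a < 15) (hb : b < 8) (hc : c < 6) : Lev (repW a b c) :=
  Lev.append (rep_lev.1 a ha) (Lev.append (rep_lev.2.1 b hb) (rep_lev.2.2 c hc))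

theorem repW_inj {a b c a' b' c' : ℕ} (ha : a < 15) (hb : b < 8) (hc : c < 6) (ha' : a' < 15) (hb' : b' < 8)
    (hc' : c' < 6) (h : ∀ i < 16, wAct gW (repW a b c) i = wAct gW (repW a' b' c') i) :
    a = a' ∧ b = b' ∧ c = c' := by
  have d15 : ∀ a < 15, ∀ a' < 15, wAct gW (r15.getD a []) 1 = wAct gW (r15.getD a' []) 1 → a = a' := by
    decide +kernel
  have d8 : ∀ a < 8, ∀ a' < 8, wAct gW (r8.getD a []) 2 = wAct gW (r8.getD a' []) 2 → a = a' := by
    decide +kernel
  have d6 : ∀ a < 6, ∀ a' < 6, wAct gW (r6.getD a []) 4 = wAct gW (r6.getD a' []) 4 →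
      wAct gW (r6.getD a []) 8 = wAct gW (r6.getD a' []) 8 → a = a' := by
    decide +kernel
  simp only [repW, wAct_append] at h
  have e1 := h 1 (by norm_num)
  rw [(rep_fix.2 c hc).1, (rep_fix.2 c' hc').1, rep_fix.1 b hb, rep_fix.1 b' hb'] at e1
  obtain rfl := d15 a ha a' ha' e1
  have cancel : ∀ {x y : ℕ} {u : List ℕ}, Lev u → x < 16 → y < 16 → wAct gW u x = wAct gW u y → x = y :=
    fun hu hx hy e => by rw [← W_rev hu hx, e, W_rev hu hy]
  have h8 : ∀ b, b < 8 → ∀ c, c < 6 → ∀ i, i < 16 →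
      wAct gW (r8.getD b []) (wAct gW (r6.getD c []) i) < 16 :=
    fun _ hb _ hc _ hi => W_lt (rep_lev.2.1 _ hb) (W_lt (rep_lev.2.2 _ hc) hi)
  have h' : ∀ i < 16, wAct gW (r8.getD b []) (wAct gW (r6.getD c []) i) =
      wAct gW (r8.getD b' []) (wAct gW (r6.getD c' []) i) := fun i hi =>
    cancel (rep_lev.1 a ha) (h8 b hb c hc i hi) (h8 b' hb' c' hc' i hi) (h i hi)
  have e2 := h' 2 (by norm_num)
  rw [(rep_fix.2 c hc).2, (rep_fix.2 c' hc').2] at e2
  obtain rfl := d8 b hb b' hb' e2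
  have h'' : ∀ i < 16, wAct gW (r6.getD c []) i = wAct gW (r6.getD c' []) i := fun i hi =>
    cancel (rep_lev.2.1 b hb) (W_lt (rep_lev.2.2 c hc) hi) (W_lt (rep_lev.2.2 c' hc') hi) (h' i hi)
  exact ⟨rfl, rfl, d6 c hc c' hc' (h'' 4 (by norm_num)) (h'' 8 (by norm_num))⟩

/-- A map of the fixed space keeping the form is given by a representative. -/
theorem exists_rep {l : ℕ → ℕ} (hlt : ∀ i < 16, l i < 16) (hx : ∀ i < 16, ∀ k < 16, l (i ^^^ k) = l i ^^^ l k)
    (hb : ∀ i < 16, ∀ k < 16, bet (l i) (l k) = bet i k) :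
    ∃ u, Lev u ∧ ∀ i < 16, wAct gW u i = l i := by
  have h0 : l 0 = 0 := by
    have := hx 0 (by norm_num) 0 (by norm_num)
    rwa [Nat.xor_self, Nat.xor_self] at this
  have hne : l 1 ≠ 0 := fun e => by
    have := hb 1 (by norm_num) 2 (by norm_num)
    rw [e, bet_facts.1] at this
    have z : ∀ x < 16, bet 0 x = false := by decide +kernel
    rw [z _ (hlt 2 (by norm_num))] at this
    exact absurd this (by decide)
  obtain ⟨a, ha, ea⟩ := rep_hit15 _ (hlt 1 (by norm_num)) hne
  have la := rep_lev.1 a ha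
  let f : ℕ → ℕ := fun i => wAct gW (r15.getD a []).reverse (l i)
  have flt : ∀ i < 16, f i < 16 := fun i hi => W_lt (Lev.reverse la) (hlt i hi)
  have fb : ∀ i < 16, ∀ k < 16, bet (f i) (f k) = bet i k := fun i hi k hk => by
    rw [bet_act (Lev.reverse la) (hlt i hi) (hlt k hk), hb i hi k hk]
  have f1 : f 1 = 1 := by show wAct gW _ (l 1) = 1; rw [← ea, W_rev la (by norm_num)]
  obtain ⟨b, hb', eb⟩ := rep_hit8 _ (flt 2 (by norm_num)) (by
    have := fb 1 (by norm_num) 2 (by norm_num); rwa [f1, bet_facts.1] at this)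
  have lb := rep_lev.2.1 b hb'
  let g : ℕ → ℕ := fun i => wAct gW (r8.getD b []).reverse (f i)
  have glt : ∀ i < 16, g i < 16 := fun i hi => W_lt (Lev.reverse lb) (flt i hi)
  have gb : ∀ i < 16, ∀ k < 16, bet (g i) (g k) = bet i k := fun i hi k hk => by
    rw [bet_act (Lev.reverse lb) (flt i hi) (flt k hk), fb i hi k hk]
  have g1 : g 1 = 1 := by
    show wAct gW _ (f 1) = 1
    rw [f1]
    conv_lhs => rw [← rep_fix.1 b hb']
    exact W_rev lb (by norm_num)
  have g2 : g 2 = 2 := by show wAct gW _ (f 2) = 2; rw [← eb, W_rev lb (by norm_num)]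
  obtain ⟨b1, b2, b3, b4, b5, b6, -⟩ := bet_facts
  obtain ⟨c, hc, e4, e8⟩ := rep_hit6 _ (glt 4 (by norm_num)) _ (glt 8 (by norm_num))
    (by have := gb 1 (by norm_num) 4 (by norm_num); rwa [g1, b3] at this)
    (by have := gb 2 (by norm_num) 4 (by norm_num); rwa [g2, b4] at this)
    (by have := gb 1 (by norm_num) 8 (by norm_num); rwa [g1, b5] at this)
    (by have := gb 2 (by norm_num) 8 (by norm_num); rwa [g2, b6] at this)
    (by rw [gb 4 (by norm_num) 8 (by norm_num), b2])
  refine ⟨repW a b c, repW_lev ha hb' hc, ?_⟩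
  have back : ∀ i < 16, wAct gW (r15.getD a []) (wAct gW (r8.getD b []) (g i)) = l i := by
    intro i hi
    show wAct gW _ (wAct gW _ (wAct gW _ (f i))) = _
    have e1 : wAct gW (r8.getD b []) (wAct gW (r8.getD b []).reverse (f i)) = f i := by
      conv_lhs => arg 2; rw [← List.reverse_reverse (r8.getD b [])]
      exact W_rev (Lev.reverse lb) (flt i hi)
    rw [e1]
    show wAct gW _ (wAct gW (r15.getD a []).reverse (l i)) = _
    conv_lhs => arg 2; rw [← List.reverse_reverse (r15.getD a [])]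
    exact W_rev (Lev.reverse la) (hlt i hi)
  have key : ∀ i < 16, i = bn (i.testBit 0) 1 ^^^ bn (i.testBit 1) 2 ^^^ bn (i.testBit 2) 4 ^^^ bn (i.testBit 3) 8 := by
    decide +kernel
  intro i hi
  have one : ∀ k, (k = 1 ∨ k = 2 ∨ k = 4 ∨ k = 8) → wAct gW (repW a b c) k = l k := by
    intro k hk
    have hk16 : k < 16 := by rcases hk with rfl | rfl | rfl | rfl <;> norm_num
    rw [repW, wAct_append, wAct_append]
    have : wAct gW (r6.getD c []) k = g k := by
      rcases hk with rfl | rfl | rfl | rfl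
      · rw [(rep_fix.2 c hc).1, g1]
      · rw [(rep_fix.2 c hc).2, g2]
      · exact e4
      · exact e8
    rw [this, back k hk16]
  have oneb : ∀ (β : Bool) k, (k = 1 ∨ k = 2 ∨ k = 4 ∨ k = 8) →
      bn β k < 16 ∧ wAct gW (repW a b c) (bn β k) = l (bn β k) := by
    intro β k hk
    cases β
    · exact ⟨by norm_num [bn], by rw [bn, cond_false, wAct_zero, h0]⟩
    · exact ⟨by rcases hk with rfl | rfl | rfl | rfl <;> norm_num [bn], by rw [bn, cond_true, one k hk]⟩
  obtain ⟨p1, q1⟩ := oneb (i.testBit 0) 1 (by omega)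
  obtain ⟨p2, q2⟩ := oneb (i.testBit 1) 2 (by omega)
  obtain ⟨p4, q4⟩ := oneb (i.testBit 2) 4 (by omega)
  obtain ⟨p8, q8⟩ := oneb (i.testBit 3) 8 (by omega)
  rw [key i hi, wAct_xor, wAct_xor, wAct_xor, hx _ (lt4 (lt4 p1 p2) p4) _ p8, hx _ (lt4 p1 p2) _ p4,
    hx _ p1 _ p2, q1, q2, q4, q8]

end Cfsg.Agent.Co2Recog.Side
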