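import Cfsg.Agent.Lib.Co2Recog.Side.Stab
import Cfsg.Agent.Lib.Co2Recog.Side.ModelBasic
import Cfsg.Agent.Lib.Co2Recog.Module

/-!
Coordinates on the model in which one sign change is the first transvection: then the abelian subgroup of the
recognition is the group of sign changes and its normaliser meets the centraliser in the monomial elements.
-/

set_option autoImplicit false
set_option maxRecDepth 20000
set_option linter.unusedSectionVars false

noncomputable section

namespace Cfsg.Agent.Co2Recog.Side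

open Cfsg Cfsg.Agent.Golay Cfsg.Agent.Leech Cfsg.Agent.PermCert
open Cfsg.Agent.ThRec.Eight (act ap)
open Cfsg.Agent.Co2Recog.NA
open Cfsg.Agent.Co2Recog.Layers (incl2 N2 liftU incl2_lift incl2_fix)
open Cfsg.Agent.Co2Graph (C2 mem_C2 incl2_t2)
open scoped Pointwise

/-- The code of the identity permutation. -/
def idElt : PermCert.Elt := (984818244535754528103549039458486304, 984818244535754528103549039458486304)

/-- The word of a sign change over the first transvection. -/
def y2W : ℕ := 663036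

theorem y2_checks : validElt 5 24 idElt = true ∧ isAutB idElt = true ∧ inCode y2W = true ∧
    y2W.testBit 23 = false ∧ y2W.testBit 0 = false ∧ (∀ p, permOf idElt p = p) := by
  decide +kernel

theorem y2_lines : linesAs idElt y2W (fun j => tv 0 j) = true := by decide +kernel

theorem y2_code : ofMask y2W ∈ golayCode := ofMask_mem_golayCode y2_checks.2.2.1

/-- A sign change over the first transvection. -/
def y2 : ↥Spor.Co2 :=
  liftU (Leech.diag ⟨ofMask y2W, y2_code⟩) (Co2Graph.mono_fixU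
    (show (1 : Equiv.Perm GolayPt) • Co2Graph.pairSet = Co2Graph.pairSet from one_smul _ _) (by
      intro p hp
      rcases Finset.mem_insert.1 hp with rfl | hp
      · show ofMask y2W none = 0
        simp [ofMask, Layers.idx_pair.1, y2_checks.2.2.2.1]
      · rw [Finset.mem_singleton.1 hp]
        show ofMask y2W (some 0) = 0
        simp [ofMask, Layers.idx_pair.2, y2_checks.2.2.2.2.1]))

theorem y2_A2 : y2 ∈ A2 := ⟨_, incl2_lift _ _⟩

theorem y2_C : y2 ∈ Subgroup.centralizer ({E8Cent.t2} : Set ↥Spor.Co2) := A2_le_C2 y2_A2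

theorem f2_y2 : f2 ⟨y2, y2_C⟩ = tv 0 := by
  obtain ⟨hv, ha, -, -, -, hid⟩ := y2_checks
  have hM := permOf_mem_M24 hv ha
  refine Equiv.ext (f2_lines hM y2_code hv ?_ y2_lines)
  rw [show incl2 y2 = Leech.diag ⟨ofMask y2W, y2_code⟩ from incl2_lift _ _]
  exact congrArg mono (Prod.ext (Subtype.ext (Equiv.ext fun p => (hid p).symm)) rfl)

/-- The coordinates. -/
def K2 : Coords E8Cent.t2 Q2 := (Setup.exists_coords_of setup2 f2 f2_range f2_ker).choose

theorem K2_pi : K2.π = f2 := (Setup.exists_coords_of setup2 f2 f2_range f2_ker).choose_spec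

theorem y2_fixes {e : ↥Spor.Co2} (he : e ∈ Q2) (hA : e ∈ A2) : inW (K2.c e) = true := by
  have h := K2.act ⟨y2, y2_C⟩ [0] (by rw [K2_pi, f2_y2]; exact mul_one _) e he
  rw [show y2 * e * y2⁻¹ = e by rw [A2_comm y2_A2 hA, mul_inv_cancel_right]] at h
  rw [w_fix _ (K2.c_lt e he)]
  exact Nat.beq_eq ▸ h.symm

/-- The elements over the fixed space are sign changes. -/
theorem inW_A2 {e : ↥Spor.Co2} (he : e ∈ Q2) (hW : inW (K2.c e) = true) : e ∈ A2 := by
  classical
  have := Co2Graph.finite_Co2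
  let E := {a : ↥Spor.Co2 // a ∈ Q2 ∧ inW (K2.c a) = true}
  let w : Fin 32 → ↥Q2 := fun j => equivKer.symm ⟨((E8Cent.kElt (0, j) : ↥E8Cent.rho.ker) : ↥E8Cent.Cc), (E8Cent.kElt (0, j)).2⟩
  have hw : ∀ j, (w j : ↥Spor.Co2) ∈ A2 := fun j => by
    refine ⟨⟨E8Cent.wW j, (E8Cent.wW_ok j).1⟩, ?_⟩
    show ((E8Cent.kElt (0, j) : ↥E8Cent.rho.ker) : ↥E8Cent.Cc).1 = _
    rw [E8Cent.kElt_val]
    exact congrArg mono (Prod.ext (Subtype.ext (Equiv.ext fun p => by simp [E8Cent.kPair, E8Cent.octP_zero])) rfl)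
  let ι : Fin 32 → E := fun j => ⟨(w j : ↥Spor.Co2), (w j).2, y2_fixes (w j).2 (hw j)⟩
  have hι : Function.Injective ι := fun a b h => by
    have h1 : w a = w b := Subtype.ext (congrArg (fun z : E => z.1) h)
    have h2 := equivKer.symm.injective h1
    have h3 : E8Cent.kElt (0, a) = E8Cent.kElt (0, b) :=
      Subtype.ext (congrArg (fun z : ↥E8Cent.rho.ker => (z : ↥E8Cent.Cc)) h2)
    exact (Prod.mk.inj (E8Cent.kElt_inj h3)).2
  have hE : Nat.card E ≤ Nat.card (Fin 32) := by
    choose rep hrep hrepc hrepW using fun i : Fin 16 => exists_ew setup2 K2 i.2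
    have hR : ∀ (i : Fin 16) b, inW (K2.c (rep i * tw E8Cent.t2 b)) = true ∧ rep i * tw E8Cent.t2 b ∈ Q2 := fun i b =>
      ⟨by rw [K2.c_mul _ (hrep i) _ (Setup.tw_mem setup2 b), Coord.c_tw setup2 K2, Nat.xor_zero]; exact hrepW i,
        mul_mem (hrep i) (Setup.tw_mem setup2 b)⟩
    refine (Nat.card_le_card_of_surjective
      (fun p : Fin 16 × Bool => (⟨rep p.1 * tw E8Cent.t2 p.2, (hR _ _).2, (hR _ _).1⟩ : E)) ?_).trans (by simp)
    rintro ⟨a, ha, hW'⟩
    obtain ⟨i, hi, ei⟩ := w_enum _ (K2.c_lt a ha) hW'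
    obtain ⟨b, hb⟩ := Coord.eq_of_c setup2 K2 ha (hrep ⟨i, hi⟩) (by rw [hrepc]; exact ei.symm)
    exact ⟨(⟨i, hi⟩, b), Subtype.ext hb.symm⟩
  obtain ⟨j, hj⟩ := (hι.bijective_of_nat_card_le hE).2 ⟨e, he, hW⟩
  have hje : (w j : ↥Spor.Co2) = e := congrArg (fun z : E => z.1) hj
  rw [← hje]
  exact hw j

/-- **The abelian subgroup is the group of sign changes.** -/
theorem AA_K2 : AA K2 = A2 := by
  have := Co2Graph.finite_Co2
  refine (Subgroup.eq_of_le_of_card_ge (fun a ha => ?_) ((card_AA setup2 K2).trans card_A2)).symm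
  exact mem_AA.2 ⟨A2_comm ha t2_A2, fun q hq hW => A2_comm ha (inW_A2 hq hW)⟩

/-- **The centraliser in the normaliser is the monomial part.** -/
theorem HH_K2 : HH K2 = N2 ⊓ C2 := by
  have := Co2Graph.finite_Co2
  refine (Subgroup.eq_of_le_of_card_ge ?_ ?_).symm
  · intro n hn
    refine ⟨hn.2, Subgroup.mem_normalizer_iff.2 fun a => ?_⟩
    rw [AA_K2]
    refine ⟨fun ha => A2_conj hn.1 ha, fun ha => ?_⟩
    have := A2_conj (inv_mem hn.1) ha
    rwa [inv_inv, show n⁻¹ * (n * a * n⁻¹) * n = a by group] at this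
  · exact (card_HH setup2 K2).trans (le_trans (by norm_num) Co2Graph.card_N2C2)

end Cfsg.Agent.Co2Recog.Side
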