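import Cfsg.Agent.Lib.Co2Recog.Side.Levi

/-!
The centraliser of the involution inside the normaliser of the abelian subgroup: it acts on the spin module as the
stabiliser of the first transvection, a Levi element times a valid form.
-/

set_option autoImplicit false
set_option maxRecDepth 100000
set_option linter.unusedSectionVars false

noncomputable section

namespace Cfsg.Agent.Co2Recog.Side

open Equiv Subgroup
open Cfsg.Agent.ThRec.Eight (act ap ap_xor ap_zero act_xor act_zero act_append)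
open Cfsg.Agent.Co2Recog.NA

variable {G : Type*} [Group G] {t : G} {Q : Subgroup G}

/-- The centraliser of `t` in the normaliser of the abelian subgroup. -/
abbrev HH (K : Coords t Q) : Subgroup G := centralizer {t} ⊓ normalizer (AA K : Set G)

/-- An element centralising `t` and acting trivially on the fixed space. -/
def FixW (K : Coords t Q) (x : G) : Prop :=
  x ∈ centralizer {t} ∧ ∀ e ∈ Q, inW (K.c e) = true → K.c (x * e * x⁻¹) = K.c e

variable (S : Setup t Q) (K : Coords t Q)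
include S K

theorem exists_lift_word (w : List ℕ) :
    ∃ x : ↥(centralizer ({t} : Set G)), K.π x = permW w :=
  MonoidHom.mem_range.1 (by rw [K.range]; exact Co2Recog.permW_mem w)

theorem exists_ew {i : ℕ} (hi : i < 16) : ∃ q ∈ Q, K.c q = ew i ∧ inW (K.c q) = true := ew_coord S hi

theorem exists_c {v : ℕ} (hv : v < 256) : ∃ q ∈ Q, K.c q = v := K.c_surj v hv

/-- The matrix of a word depends on its permutation only. -/
theorem act_congr {u w : List ℕ} (h : permW u = permW w) {v : ℕ} (hv : v < 256) :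
    act sX u v = act sX w v := by
  obtain ⟨x, hx⟩ := exists_lift_word S K u
  obtain ⟨q, hq, rfl⟩ := exists_c S K hv
  rw [← K.act x u hx.symm q hq, ← K.act x w (h.symm.trans hx.symm) q hq]

/-- Two elements with one action lie in one coset of `Q`. -/
theorem same_act {x y : G} (hx : x ∈ centralizer {t}) (hy : y ∈ centralizer {t})
    (h : ∀ q ∈ Q, K.c (x * q * x⁻¹) = K.c (y * q * y⁻¹)) : x⁻¹ * y ∈ Q := by
  refine mem_Q_of_frm (K := K) S (mul_mem (inv_mem hx) hy) ⟨by norm_num, fun q hq => ?_⟩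
  rw [alpha_id _ (K.c_lt q hq)]
  obtain ⟨w, hw⟩ := Co2Recog.exists_word (p := K.π ⟨x, hx⟩) (by rw [← K.range]; exact ⟨_, rfl⟩)
  have hz : x⁻¹ * y * q * (x⁻¹ * y)⁻¹ ∈ Q := Setup.na_conj S (mul_mem (inv_mem hx) hy) hq
  have e := K.act ⟨x, hx⟩ w hw _ hz
  have e' := K.act ⟨x, hx⟩ w hw q hq
  rw [show x * (x⁻¹ * y * q * (x⁻¹ * y)⁻¹) * x⁻¹ = y * q * y⁻¹ by group, ← h q hq, e'] at e
  have := congrArg (act sX w.reverse) e
  rw [act_reverse w (K.c_lt q hq), act_reverse w (K.c_lt _ hz)] at this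
  exact this.symm

/-- The permutation of a word depends on its matrix only. -/
theorem permW_of_act {u w : List ℕ} (h : ∀ v < 256, act sX u v = act sX w v) : permW u = permW w := by
  obtain ⟨⟨x, hx⟩, ex⟩ := exists_lift_word S K u
  obtain ⟨⟨y, hy⟩, ey⟩ := exists_lift_word S K w
  have := same_act S K hx hy fun q hq => by
    rw [K.act ⟨x, hx⟩ u ex.symm q hq, K.act ⟨y, hy⟩ w ey.symm q hq, h _ (K.c_lt q hq)]
  have h1 := (K.ker (⟨x, hx⟩⁻¹ * ⟨y, hy⟩)).2 this
  rw [map_mul, map_inv, ex, ey, inv_mul_eq_one] at h1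
  exact h1

theorem mem_HH {x : G} (hx : x ∈ centralizer {t})
    (h : ∀ e ∈ Q, inW (K.c e) = true → inW (K.c (x * e * x⁻¹)) = true)
    (h' : ∀ e ∈ Q, inW (K.c e) = true → inW (K.c (x⁻¹ * e * x)) = true) : x ∈ HH K := by
  have hx' : x⁻¹ ∈ centralizer {t} := inv_mem hx
  have key : ∀ {x : G}, x ∈ centralizer {t} → (∀ e ∈ Q, inW (K.c e) = true → inW (K.c (x⁻¹ * e * x)) = true) →
      ∀ a ∈ AA K, x * a * x⁻¹ ∈ AA K := by
    intro x hx h a ha
    refine mem_AA.2 ⟨mem_centralizer_singleton_iff.1 (mul_mem (mul_mem hx (AA_cent ha)) (inv_mem hx)),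
      fun e he hW => ?_⟩
    have e' := (mem_AA.1 ha).2 (x⁻¹ * e * x) (by
      have := Setup.na_conj S (inv_mem hx) he
      rwa [inv_inv] at this) (h e he hW)
    calc x * a * x⁻¹ * e = x * (a * (x⁻¹ * e * x)) * x⁻¹ := by group
      _ = e * (x * a * x⁻¹) := by rw [e']; group
  refine ⟨hx, mem_normalizer_iff.2 fun a => ⟨fun ha => key hx h' a ha, fun ha => ?_⟩⟩
  have := key hx' (fun e he hW => by rw [inv_inv]; exact h e he hW) _ ha
  rwa [inv_inv, show x⁻¹ * (x * a * x⁻¹) * x = a by group] at this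

theorem HH_keep {x : G} (hx : x ∈ HH K) {e : G} (he : e ∈ Q) (hW : inW (K.c e) = true) :
    inW (K.c (x * e * x⁻¹)) = true :=
  AA_inter S (Setup.na_conj S hx.1 he) ((mem_normalizer_iff.1 hx.2 e).1 (E_le_AA S he hW))

theorem FixW.mem {x : G} (h : FixW K x) : x ∈ HH K := by
  refine mem_HH S K h.1 (fun e he hW => by rw [h.2 e he hW]; exact hW) fun e he hW => ?_
  obtain ⟨w, hw⟩ := Co2Recog.exists_word (p := K.π ⟨x, h.1⟩) (by rw [← K.range]; exact ⟨_, rfl⟩)
  have e1 := h.2 e he hW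
  rw [K.act ⟨x, h.1⟩ w hw e he] at e1
  have hw' : permW w.reverse = K.π ⟨x, h.1⟩⁻¹ := by rw [permW_reverse, map_inv, hw]
  have e2 := K.act ⟨x, h.1⟩⁻¹ w.reverse hw' e he
  rw [Subgroup.coe_inv, inv_inv] at e2
  have := congrArg (act sX w.reverse) e1
  rw [act_reverse w (K.c_lt e he)] at this
  rw [e2, ← this]
  exact hW

/-- Every Levi element times a valid form is realised. -/
theorem exists_hh_lift {u : List ℕ} (hu : Lev u) {m : ℕ} (hm : m < 32) :
    ∃ x : G, ∃ hx : x ∈ centralizer {t}, x ∈ HH K ∧ K.π ⟨x, hx⟩ = permW (cwW u ++ fWd m) := by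
  obtain ⟨⟨x, hx⟩, ex⟩ := exists_lift_word S K (cwW u ++ fWd m)
  have hw : ∀ i < 16, act sX (cwW u ++ fWd m) (ew i) = ew (wAct gW u i) := fun i hi => by
    rw [act_append, fWd_act hm (ew_mem i hi).2, alpha_inW _ (fWd_ok m hm).1 i hi, W_act hu hi]
  refine ⟨x, hx, mem_HH S K hx (fun e he hW => ?_) (fun e he hW => ?_), ex⟩
  · obtain ⟨i, hi, ei⟩ := w_enum _ (K.c_lt e he) hW
    rw [K.act ⟨x, hx⟩ _ ex.symm e he, ← ei, hw i hi]
    exact (ew_mem _ (W_lt hu hi)).1
  · obtain ⟨i, hi, ei⟩ := w_enum _ (K.c_lt e he) hW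
    have e2 := K.act ⟨x, hx⟩⁻¹ (cwW u ++ fWd m).reverse (by rw [permW_reverse, map_inv, ex]) e he
    rw [Subgroup.coe_inv, inv_inv] at e2
    have hi' : i = wAct gW u (wAct gW u.reverse i) := by
      conv_rhs => arg 2; rw [← List.reverse_reverse u]
      exact (W_rev hu.reverse hi).symm
    rw [e2, ← ei, hi', ← hw _ (W_lt hu.reverse hi), act_reverse _ (ew_mem _ (W_lt hu.reverse hi)).2]
    exact (ew_mem _ (W_lt hu.reverse hi)).1

theorem exists_tv_lift : ∃ a, ∃ ha : a ∈ AA K, K.π ⟨a, AA_cent ha⟩ = tv 0 := by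
  obtain ⟨⟨y, hy⟩, ey⟩ := exists_lift_word S K [0]
  obtain ⟨q, hq, hqA⟩ := exists_fix S K hy fun e he hW => by
    rw [K.act ⟨y, hy⟩ [0] ey.symm e he]
    exact Nat.eq_of_beq_eq_true ((w_fix _ (K.c_lt e he)).symm.trans hW)
  refine ⟨q * y, hqA, ?_⟩
  rw [show (⟨q * y, AA_cent hqA⟩ : ↥(centralizer ({t} : Set G))) = ⟨q, S.le hq⟩ * ⟨y, hy⟩ from rfl, map_mul,
    (K.ker ⟨q, S.le hq⟩).2 hq, one_mul, ey]
  exact mul_one _

theorem AA_perm {a : G} (ha : a ∈ AA K) :
    ∃ m < 32, Frm K a (formB m) ∧ K.π ⟨a, AA_cent ha⟩ = permW (fWd m) := by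
  obtain ⟨w, hw⟩ := Co2Recog.exists_word (p := K.π ⟨a, AA_cent ha⟩) (by rw [← K.range]; exact ⟨_, rfl⟩)
  obtain ⟨b, hb, hv⟩ := exists_frm S ha hw
  obtain ⟨m, hm, rfl⟩ := form_span b hb.1 hv
  refine ⟨m, hm, hb, ?_⟩
  rw [← hw]
  refine permW_of_act S K fun v hv => ?_
  obtain ⟨q, hq, rfl⟩ := exists_c S K hv
  rw [← K.act ⟨a, AA_cent ha⟩ w hw q hq, hb.2 q hq, fWd_act hm (K.c_lt q hq)]

omit S K in
/-- The number of fixed points. -/
def nFix (p : Perm (Fin 63)) : ℕ := (Finset.univ.filter fun i => p i = i).card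

omit S K in
theorem nFix_conj (g p : Perm (Fin 63)) : nFix (g * p * g⁻¹) = nFix p := by
  refine (Finset.card_equiv g fun i => ?_).symm
  rw [Finset.mem_filter, Finset.mem_filter]
  simp [Perm.mul_apply, Perm.inv_def]

omit S K in
theorem nFix_form : ∀ m < 32, nFix (permW (fWd m)) = nFix (tv 0) → m = 1 := by decide +kernel

omit S K in
theorem fWd_one : permW (fWd 1) = tv 0 := mul_one _

/-- The image centralises the first transvection. -/
theorem HH_comm {x : G} (hx : x ∈ HH K) : K.π ⟨x, hx.1⟩ * tv 0 = tv 0 * K.π ⟨x, hx.1⟩ := by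
  obtain ⟨a, ha, ea⟩ := exists_tv_lift S K
  have ha' : x * a * x⁻¹ ∈ AA K := (mem_normalizer_iff.1 hx.2 a).1 ha
  obtain ⟨m, hm, -, em⟩ := AA_perm S K ha'
  rw [show (⟨x * a * x⁻¹, AA_cent ha'⟩ : ↥(centralizer ({t} : Set G))) =
    ⟨x, hx.1⟩ * ⟨a, AA_cent ha⟩ * ⟨x, hx.1⟩⁻¹ from rfl, map_mul, map_mul, map_inv, ea] at em
  obtain rfl := nFix_form m hm (by rw [← em, nFix_conj])
  rw [fWd_one, mul_inv_eq_iff_eq_mul] at em
  exact em

omit S K in
/-- The centraliser of the first transvection. -/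
abbrev C0 : Subgroup (Perm (Fin 63)) := Sp63 ⊓ centralizer {tv 0}

omit S K in
theorem pt_keys : (((List.range 63).map fun i =>
    key (eW (ptW.getD i [] ++ 0 :: (ptW.getD i []).reverse)))).Nodup := by decide +kernel

omit S K in
theorem card_C0 : Nat.card C0 * 63 ≤ 1451520 := by
  let f : Fin 63 × C0 → Sp63 := fun p => ⟨permW (ptW.getD p.1 []) * p.2,
    mul_mem (Co2Recog.permW_mem _) p.2.2.1⟩
  suffices hf : Function.Injective f by
    have h := Nat.card_le_card_of_injective f hf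
    rw [Nat.card_prod, Nat.card_fin, card_Sp63] at h
    omega
  rintro ⟨i, a⟩ ⟨j, b⟩ e
  have e' : permW (ptW.getD i []) * (a : Perm (Fin 63)) = permW (ptW.getD j []) * b := congrArg Subtype.val e
  have conj : ∀ (k : Fin 63) (c : C0), permW (ptW.getD k [] ++ 0 :: (ptW.getD k []).reverse) =
      permW (ptW.getD k []) * c * tv 0 * (permW (ptW.getD k []) * c)⁻¹ := fun k c => by
    have hc : (c : Perm (Fin 63)) * tv 0 = tv 0 * c := mem_centralizer_singleton_iff.1 c.2.2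
    rw [permW_append, show permW (0 :: (ptW.getD k []).reverse) = tv 0 * permW (ptW.getD k []).reverse from rfl,
      permW_reverse, mul_assoc _ (c : Perm (Fin 63)), hc, _root_.mul_inv_rev]
    group
  have hk : key (eW (ptW.getD i [] ++ 0 :: (ptW.getD i []).reverse)) =
      key (eW (ptW.getD j [] ++ 0 :: (ptW.getD j []).reverse)) := by
    rw [← permW_eq_iff, conj i a, conj j b, e']
  have hij : i = j := Fin.ext <| (List.Nodup.getElem_inj_iff pt_keys (hi := by simp) (hj := by simp)).1 (by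
    simpa using hk)
  subst hij
  exact Prod.ext rfl (Subtype.ext (mul_left_cancel e'))

/-- **The stabiliser of the first transvection**: Levi elements times valid forms. -/
theorem stab_word {p : Perm (Fin 63)} (hp : p ∈ Sp63) (hc : p * tv 0 = tv 0 * p) :
    ∃ u, (∃ a < 15, ∃ b < 8, ∃ c < 6, u = repW a b c) ∧ ∃ m < 32, p = permW (cwW u ++ fWd m) := by
  let f : (Fin 15 × Fin 8 × Fin 6) × Fin 32 → C0 := fun x =>
    ⟨permW (cwW (repW x.1.1 x.1.2.1 x.1.2.2) ++ fWd x.2), Co2Recog.permW_mem _, by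
      obtain ⟨y, hy, hyH, ey⟩ := exists_hh_lift S K
        (repW_lev x.1.1.2 x.1.2.1.2 x.1.2.2.2) (m := x.2) x.2.2
      exact mem_centralizer_singleton_iff.2 (ey ▸ HH_comm S K hyH)⟩
  have hf : Function.Injective f := by
    rintro ⟨⟨a, b, c⟩, m⟩ ⟨⟨a', b', c'⟩, m'⟩ e
    have e' := congrArg Subtype.val e
    have hl := repW_lev a.2 b.2 c.2
    have hl' := repW_lev a'.2 b'.2 c'.2
    have h := fun v (hv : v < 256) => act_congr S K e' hv
    obtain ⟨h1, h2, h3⟩ := repW_inj a.2 b.2 c.2 a'.2 b'.2 c'.2 fun i hi => by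
      refine ew_inj _ (W_lt hl hi) _ (W_lt hl' hi) ?_
      have hi' := h (ew i) (ew_mem i hi).2
      rwa [act_append, act_append, fWd_act m.2 (ew_mem i hi).2, fWd_act m'.2 (ew_mem i hi).2,
        alpha_inW _ (fWd_ok m m.2).1 i hi, alpha_inW _ (fWd_ok m' m'.2).1 i hi, W_act hl hi, W_act hl' hi] at hi'
    obtain rfl := Fin.ext h1
    obtain rfl := Fin.ext h2
    obtain rfl := Fin.ext h3
    have hb : formB m = formB m' := alpha_inj (fWd_ok m m.2).1 (fWd_ok m' m'.2).1 fun v hv => by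
      have h' := congrArg (act sX (cwW (repW a b c)).reverse) (h v hv)
      rwa [act_append, act_append, fWd_act m.2 hv, fWd_act m'.2 hv,
        act_reverse _ (alpha_lt8 (fWd_ok m m.2).1 hv), act_reverse _ (alpha_lt8 (fWd_ok m' m'.2).1 hv)] at h'
    obtain rfl := Fin.ext (formB_inj m m.2 m' m'.2 hb)
    rfl
  have hcard : Nat.card C0 ≤ Nat.card ((Fin 15 × Fin 8 × Fin 6) × Fin 32) := by
    have := card_C0
    simp only [Nat.card_prod, Nat.card_fin]
    omega
  obtain ⟨⟨⟨a, b, c⟩, m⟩, e⟩ := (hf.bijective_of_nat_card_le hcard).2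
    ⟨p, hp, mem_centralizer_singleton_iff.2 hc⟩
  exact ⟨_, ⟨a, a.2, b, b.2, c, c.2, rfl⟩, m, m.2, (congrArg Subtype.val e).symm⟩

/-- The action of an element of the subgroup. -/
theorem HH_word {x : G} (hx : x ∈ HH K) :
    ∃ u, (∃ a < 15, ∃ b < 8, ∃ c < 6, u = repW a b c) ∧ ∃ m < 32,
      K.π ⟨x, hx.1⟩ = permW (cwW u ++ fWd m) ∧
      ∀ q ∈ Q, K.c (x * q * x⁻¹) = act sX (cwW u) (ap (alphaM (formB m)) (K.c q)) := by
  obtain ⟨u, hu, m, hm, e⟩ := stab_word S K (p := K.π ⟨x, hx.1⟩) (by rw [← K.range]; exact ⟨_, rfl⟩)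
    (HH_comm S K hx)
  exact ⟨u, hu, m, hm, e, fun q hq => by
    rw [K.act ⟨x, hx.1⟩ _ e.symm q hq, act_append, fWd_act hm (K.c_lt q hq)]⟩

/-- An element fixing the fixed space acts as a valid form. -/
theorem FixW.form {x : G} (h : FixW K x) : ∃ b, Frm K x b ∧ validF b = true := by
  obtain ⟨u, ⟨a, ha, b, hb, c, hc, rfl⟩, m, hm, -, e⟩ := HH_word S K (h.mem S K)
  have hl := repW_lev ha hb hc
  have e0 : ∀ i < 16, wAct gW (repW a b c) i = wAct gW (repW 0 0 0) i := fun i hi => by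
    obtain ⟨q, hq, eq, hW⟩ := exists_ew S K hi
    have := e q hq
    rw [h.2 q hq hW, eq, alpha_inW _ (fWd_ok m hm).1 i hi, W_act hl hi] at this
    rw [← ew_inj _ hi _ (W_lt hl hi) this, show repW 0 0 0 = [] by decide +kernel]
    rfl
  obtain ⟨rfl, rfl, rfl⟩ := repW_inj ha hb hc (by norm_num) (by norm_num) (by norm_num) e0
  refine ⟨formB m, ⟨(fWd_ok m hm).1, fun q hq => ?_⟩, (fWd_ok m hm).2.1⟩
  rw [e q hq, show repW 0 0 0 = [] by decide +kernel]
  rfl

/-- The order of the subgroup. -/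
theorem card_HH [Finite G] : Nat.card ↥(HH K) ≤ 512 * 23040 := by
  let φ : ↥(HH K) →* ↥C0 := (K.π.comp (Subgroup.inclusion inf_le_left)).codRestrict C0 fun x =>
    ⟨by rw [← K.range]; exact ⟨_, rfl⟩, mem_centralizer_singleton_iff.2 (HH_comm S K x.2)⟩
  have h := φ.ker.card_mul_index
  rw [index_ker] at h
  have hk : Nat.card φ.ker ≤ 512 := by
    rw [← S.card]
    refine Nat.card_le_card_of_injective (fun x => (⟨((x : ↥(HH K)) : G),
      (K.ker _).1 (congrArg Subtype.val (MonoidHom.mem_ker.1 x.2))⟩ : Q)) fun a b e =>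
        Subtype.ext (Subtype.ext (congrArg (fun u : Q => (u : G)) e))
  have hr : Nat.card φ.range ≤ 23040 := by
    have := card_C0
    have := Subgroup.card_le_card_group φ.range
    omega
  rw [← h]
  exact Nat.mul_le_mul hk hr

/-- The order of the abelian subgroup. -/
theorem card_AA [Finite G] : Nat.card ↥(AA K) ≤ 1024 := by
  classical
  let E := {a : G // a ∈ Q ∧ inW (K.c a) = true}
  have hE : Nat.card E ≤ 32 := by
    choose rep hrep hrepc hrepW using fun i : Fin 16 => exists_ew S K i.2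
    have hW : ∀ (i : Fin 16) b, inW (K.c (rep i * tw t b)) = true ∧ rep i * tw t b ∈ Q := fun i b =>
      ⟨by rw [K.c_mul _ (hrep i) _ (Setup.tw_mem S b), Coord.c_tw S K, Nat.xor_zero]; exact hrepW i,
        mul_mem (hrep i) (Setup.tw_mem S b)⟩
    refine (Nat.card_le_card_of_surjective
      (fun p : Fin 16 × Bool => (⟨rep p.1 * tw t p.2, (hW _ _).2, (hW _ _).1⟩ : E)) ?_).trans (by simp)
    rintro ⟨a, ha, hW'⟩
    obtain ⟨i, hi, ei⟩ := w_enum _ (K.c_lt a ha) hW'
    obtain ⟨b, hb⟩ := Coord.eq_of_c S K ha (hrep ⟨i, hi⟩) (by rw [hrepc]; exact ei.symm)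
    exact ⟨(⟨i, hi⟩, b), Subtype.ext hb.symm⟩
  choose m hm hfr hperm using fun a : AA K => AA_perm S K a.2
  choose base hbase using fun k : Fin 32 =>
    (em (∃ a : AA K, m a = k)).elim (fun h => (⟨Classical.choose h, fun _ => Classical.choose_spec h⟩ :
      ∃ a : AA K, (∃ a : AA K, m a = k) → m a = k)) fun h => ⟨1, fun h' => absurd h' h⟩
  let f : ↥(AA K) → Fin 32 × E := fun a => (⟨m a, hm a⟩, ⟨(base ⟨m a, hm a⟩ : G)⁻¹ * a,
    (K.ker (⟨_, AA_cent (base ⟨m a, hm a⟩).2⟩⁻¹ * ⟨_, AA_cent a.2⟩)).1 (by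
      rw [map_mul, map_inv, hperm, hperm, hbase ⟨m a, hm a⟩ ⟨a, rfl⟩, inv_mul_cancel]),
    AA_inter S ((K.ker (⟨_, AA_cent (base ⟨m a, hm a⟩).2⟩⁻¹ * ⟨_, AA_cent a.2⟩)).1 (by
      rw [map_mul, map_inv, hperm, hperm, hbase ⟨m a, hm a⟩ ⟨a, rfl⟩, inv_mul_cancel]))
      (mul_mem (inv_mem (base ⟨m a, hm a⟩).2) a.2)⟩)
  have hf : Function.Injective f := by
    intro a b e
    obtain ⟨e1, e2⟩ := Prod.mk.inj e
    have e2' := congrArg Subtype.val e2
    dsimp only at e2'
    rw [e1] at e2'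
    exact Subtype.ext (mul_left_cancel e2')
  refine (Nat.card_le_card_of_injective f hf).trans ?_
  rw [Nat.card_prod, Nat.card_fin]
  exact (Nat.mul_le_mul_left 32 hE).trans (by norm_num)

end Cfsg.Agent.Co2Recog.Side
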