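import Cfsg.Agent.Lib.Compute.PermCert

/-! Data separating the two candidates for the gluing of the two sides of the model. -/

set_option autoImplicit false
set_option maxRecDepth 20000

namespace Cfsg.Agent.Co2Recog.Side

open Cfsg.Agent.PermCert

/-- A word fixed by the edge element. -/
def aW : ℕ :=
    6290658

/-- The image of the octad word. -/
def bW : ℕ :=
    6946666

/-- A permutation carrying the first word to the octad word. -/
def gE : PermCert.Elt :=
    (4328370098452095092320201762769207,
    26618695732782911347197453800245495)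

/-- A permutation exchanging the pair, in both centralisers. -/
def xE : PermCert.Elt :=
    (17258091876189767834384746405792471,
    1682863597692784744790456310794775)

/-- Its conjugate by the edge element, fixing the pair. -/
def xE' : PermCert.Elt :=
    (957061807763882132732031359279796736,
    972647483947118452383086475170910912)

/-- The first moved by the permutation. -/
def uE : PermCert.Elt :=
    (25050583541957577402673421797820887,
    15925107806678795543315940041329143)

/-- The second moved by it. -/
def uE' : PermCert.Elt :=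
    (973902388459396919377422555413779040,
    975241685350445007196857888416207232)

/-- The lines moved by the first. -/
def uImg : List ℕ :=
    [0, 21, 22, 3, 4, 17, 18, 8, 7, 30, 29, 12, 11, 26, 25, 15, 16, 5, 6, 19, 20, 1, 2, 24, 23, 14,
    13, 28, 27, 10, 9, 51, 52, 33, 34, 47, 48, 37, 38, 60, 59, 42, 41, 56, 55, 46, 45, 35, 36, 49,
    50, 31, 32, 53, 54, 44, 43, 58, 57, 40, 39, 62, 61]

/-- The lines moved by the sign change. -/
def bImg : List ℕ :=
    [0, 1, 2, 3, 4, 5, 6, 11, 12, 13, 14, 7, 8, 9, 10, 15, 16, 17, 18, 19, 20, 21, 22, 27, 28, 29,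
    30, 23, 24, 25, 26, 32, 31, 34, 33, 36, 35, 38, 37, 44, 43, 46, 45, 40, 39, 42, 41, 48, 47, 50,
    49, 52, 51, 54, 53, 60, 59, 62, 61, 56, 55, 58, 57]

/-- The lines moved by the second. -/
def uImg' : List ℕ :=
    [0, 21, 22, 3, 4, 17, 18, 7, 8, 29, 30, 11, 12, 25, 26, 15, 16, 5, 6, 19, 20, 1, 2, 23, 24, 13,
    14, 27, 28, 9, 10, 47, 48, 37, 38, 51, 52, 33, 34, 55, 56, 45, 46, 59, 60, 41, 42, 31, 32, 53,
    54, 35, 36, 49, 50, 39, 40, 61, 62, 43, 44, 57, 58]

end Cfsg.Agent.Co2Recog.Side
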