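import Cfsg.Agent.Lib.Co2Recog.Side.Delta
import Cfsg.Agent.Lib.Co2Recog.Side.TwistData
import Cfsg.Agent.Lib.Co2Recog.Edge.Model

/-!
Elements of the model which separate an amalgam of the two sides from the one twisted by the sign of the action
on the pair.
-/

set_option autoImplicit false
set_option maxRecDepth 20000
set_option Elab.async false
set_option linter.unusedSectionVars false

noncomputable section

namespace Cfsg.Agent.Co2Recog.Side

open Cfsg Cfsg.Agent.Golay Cfsg.Agent.Leech Cfsg.Agent.PermCert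
open Cfsg.Agent.Co2Recog.Layers (incl2 N2 liftU incl2_lift incl2_fix elemOK)
open Cfsg.Agent.Co2Graph (C2 mem_C2 incl2_t2 sigma2 sigma2_mem)
open scoped Pointwise

/-- The matrix entry of the edge element. -/
def colVal (j n : ℕ) : ℤ := (PermCert.get 4 (Edge.sAx.getD j 0) n : ℤ) - 8

/-- The edge element conjugates the one coded monomial element to the other. -/
def sigConjOK (e e' : PermCert.Elt) : Bool :=
  allBelow (fun i => allBelow (fun n => colVal i (get 5 e'.2 n) == colVal (get 5 e.1 i) n) 24) 24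

/-- Checks on one coded element. -/
def witOK (e : PermCert.Elt) : Bool :=
  elemOK e 0 && Edge.keepsOK e E8Cent.xMask

/-- Two coded permutations agree after conjugation. -/
def conjOK (g x u : PermCert.Elt) : Bool :=
  allBelow (fun i => Nat.beq (get 5 g.1 (get 5 x.1 i)) (get 5 u.1 (get 5 g.1 i))) 24

/-- The permutation carries the one word to the other. -/
def carryOK (g : PermCert.Elt) (X Y : ℕ) : Bool :=
  allBelow (fun i => X.testBit (get 5 g.2 i) == Y.testBit i) 24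

theorem twist_checks : witOK xE = true ∧ witOK xE' = true ∧ witOK uE = true ∧ witOK uE' = true ∧
    elemOK gE 0 = true ∧ inCode aW = true ∧ inCode bW = true ∧ aW.testBit 23 = false ∧ aW.testBit 0 = false ∧
    bW.testBit 23 = false ∧ bW.testBit 0 = false ∧ Edge.commOK Edge.sAx aW = true ∧ sigConjOK xE xE' = true ∧
    conjOK gE xE uE = true ∧ conjOK gE xE' uE' = true ∧ carryOK gE aW E8Cent.xMask = true ∧
    carryOK gE E8Cent.xMask bW = true ∧ Nat.beq (get 5 xE.2 23) 0 = true ∧ Nat.beq (get 5 xE'.2 23) 23 = true := by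
  decide +kernel

theorem twist_lines : linesAs uE 0 (fun j => Fin.ofNat 63 (uImg.getD j 0)) = true ∧
    linesAs idElt bW (fun j => Fin.ofNat 63 (bImg.getD j 0)) = true ∧
    linesAs uE' 0 (fun j => Fin.ofNat 63 (uImg'.getD j 0)) = true ∧
    (Finset.univ.filter fun j : Fin 63 =>
      (Fin.ofNat 63 (uImg.getD (Fin.ofNat 63 (bImg.getD j 0) : Fin 63) 0) : Fin 63) = j).card = 7 ∧
    (Finset.univ.filter fun j : Fin 63 => (Fin.ofNat 63 (uImg'.getD j 0) : Fin 63) = j).card = 15 := by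
  decide +kernel

theorem zero_code : ofMask 0 ∈ golayCode := by
  rw [show ofMask 0 = 0 from funext fun p => by simp [ofMask]]
  exact golayCode.zero_mem

/-- The element of a coded permutation. -/
theorem exists_wit {e : PermCert.Elt} (h : elemOK e 0 = true) :
    ∃ (hv : validElt 5 24 e = true) (hM : permOf e ∈ M24) (w : ↥Spor.Co2), w ∈ N2 ∧
      incl2 w = mono (⟨permOf e, hM⟩, ⟨ofMask 0, zero_code⟩) := by
  obtain ⟨hv, hM, hs, hN, -⟩ := Edge.elem_mono h
  exact ⟨hv, hM, liftU _ (MulAction.mem_stabilizer_iff.1 hN.2), mono_mem _, incl2_lift _ _⟩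

theorem wit_C2 {e : PermCert.Elt} {w : ↥Spor.Co2} {hM : permOf e ∈ M24} (hv : validElt 5 24 e = true)
    (hw : incl2 w = mono (⟨permOf e, hM⟩, ⟨ofMask 0, zero_code⟩))
    (hk : Edge.keepsOK e E8Cent.xMask = true) : w ∈ C2 :=
  Subgroup.mem_centralizer_singleton_iff.2 ((Edge.comm_keeps hw hv).1 hk)

theorem carry_diag {e : PermCert.Elt} {w : ↥Spor.Co2} {hM : permOf e ∈ M24} (hv : validElt 5 24 e = true)
    (hw : incl2 w = mono (⟨permOf e, hM⟩, ⟨ofMask 0, zero_code⟩)) {X Y : ℕ} (hX : ofMask X ∈ golayCode)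
    (hY : ofMask Y ∈ golayCode) (h : carryOK e X Y = true) :
    incl2 w * Leech.diag ⟨ofMask X, hX⟩ = Leech.diag ⟨ofMask Y, hY⟩ * incl2 w := by
  rw [hw, Edge.mono_diag]
  congr 2
  refine Subtype.ext (funext fun p => ?_)
  have := allBelow_spec _ _ h (idx p) (idx_lt p)
  rw [beq_iff_eq] at this
  simp only [OctadSpace.moved, ofMask, idx_permOf_symm hv, this]

theorem conj_perm {g x u : PermCert.Elt} (hvg : validElt 5 24 g = true) (hvx : validElt 5 24 x = true)
    (hvu : validElt 5 24 u = true) (h : conjOK g x u = true) : permOf g * permOf x = permOf u * permOf g :=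
  Equiv.ext fun p => idx_injective (by
    rw [Equiv.Perm.mul_apply, Equiv.Perm.mul_apply, idx_permOf hvg, idx_permOf hvx, idx_permOf hvu,
      idx_permOf hvg]
    have := allBelow_spec _ _ h (idx p) (idx_lt p)
    simpa using this)

theorem conj_mono {σ τ ρ : Equiv.Perm GolayPt} {hσ : σ ∈ M24} {hτ : τ ∈ M24} {hρ : ρ ∈ M24}
    (h : σ * τ = ρ * σ) :
    mono (⟨σ, hσ⟩, ⟨ofMask 0, zero_code⟩) * mono (⟨τ, hτ⟩, ⟨ofMask 0, zero_code⟩) =
      mono (⟨ρ, hρ⟩, ⟨ofMask 0, zero_code⟩) * mono (⟨σ, hσ⟩, ⟨ofMask 0, zero_code⟩) := by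
  rw [mono_mul, mono_mul]
  congr 1
  refine Prod.ext (Subtype.ext h) (Subtype.ext (funext fun p => ?_))
  simp [pairMul, ofMask]

theorem sig_conj {e e' : PermCert.Elt} {w w' : ↥Spor.Co2} {hM : permOf e ∈ M24} {hM' : permOf e' ∈ M24}
    (hv : validElt 5 24 e = true) (hv' : validElt 5 24 e' = true)
    (hw : incl2 w = mono (⟨permOf e, hM⟩, ⟨ofMask 0, zero_code⟩))
    (hw' : incl2 w' = mono (⟨permOf e', hM'⟩, ⟨ofMask 0, zero_code⟩)) (h : sigConjOK e e' = true) :
    sigma2 * w = w' * sigma2 := by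
  refine incl2_injective ?_
  rw [map_mul, map_mul, Edge.sig_incl, hw, hw']
  refine co0_ext fun i => Subtype.ext (funext fun p => ?_)
  rw [mul_smul, mul_smul, mono_axis, mono_smul]
  show ((Edge.sS • (sgn (ofMask 0) (permOf e i) • axis (permOf e i)) : leechLattice) : GolayPt → ℤ) p =
    sgn (ofMask 0) p * ((Edge.sS • axis i : leechLattice) : GolayPt → ℤ) ((permOf e').symm p)
  have hs : ∀ q, sgn (ofMask 0) q = 1 := fun q => by simp [sgn, ofMask]
  rw [hs, hs, one_smul, one_mul]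
  have hcol : ∀ j q : GolayPt, ((Edge.sS • axis j : leechLattice) : GolayPt → ℤ) q = colVal (idx j) (idx q) := by
    intro j q
    have := Edge.sS_ax (idx_lt j)
    rw [show pt ⟨idx j, idx_lt j⟩ = j from idx_injective (by rw [idx_pt])] at this
    rw [← this, Co1Recog.toVec_dec]
    rfl
  rw [hcol, hcol, idx_permOf hv, idx_permOf_symm hv']
  have := allBelow_spec _ _ (allBelow_spec _ _ h (idx i) (idx_lt i)) (idx p) (idx_lt p)
  rw [beq_iff_eq] at this
  exact this.symm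

theorem wit_chi {e : PermCert.Elt} {w : ↥Spor.Co2} {hM : permOf e ∈ M24} (hv : validElt 5 24 e = true)
    (hw : incl2 w = mono (⟨permOf e, hM⟩, ⟨ofMask 0, zero_code⟩)) (hN : w ∈ N2) :
    (Nat.beq (get 5 e.2 23) 0 = true → chi w = negCo0) ∧ (Nat.beq (get 5 e.2 23) 23 = true → chi w = 1) := by
  have hval : ((incl2 w • u' : leechLattice) : GolayPt → ℤ) none = (u' : GolayPt → ℤ) ((permOf e).symm none) := by
    rw [hw, mono_smul]
    show sgn (ofMask 0) none * _ = _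
    simp [sgn, ofMask]
  obtain ⟨h1, h2, h3, h4⟩ := pair_vals
  constructor <;> intro hb <;> rw [Nat.beq_eq] at hb
  · rw [show (permOf e).symm none = some 0 from idx_injective (by
      rw [idx_permOf_symm hv, Layers.idx_pair.1, hb, Layers.idx_pair.2]), u'_val, h4, h2] at hval
    unfold chi
    rw [if_neg]
    intro he
    rw [he, u'_val, h3, h1] at hval
    norm_num at hval
  · rw [show (permOf e).symm none = none from idx_injective (by
      rw [idx_permOf_symm hv, Layers.idx_pair.1, hb])] at hval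
    refine chi_one ((u'_cases hN).resolve_right fun he => ?_)
    rw [he] at hval
    change -(u' : GolayPt → ℤ) none = (u' : GolayPt → ℤ) none at hval
    rw [u'_val, h3, h1] at hval
    norm_num at hval

/-- **The separating elements.** -/
theorem twist_witness :
    ∃ x x' u u2 a b g : ↥Spor.Co2, (x ∈ N2 ∧ x ∈ C2) ∧ (x' ∈ N2 ∧ x' ∈ C2) ∧ (u ∈ N2 ∧ u ∈ C2) ∧
      (u2 ∈ N2 ∧ u2 ∈ C2) ∧ a ∈ A2 ∧ b ∈ A2 ∧ g ∈ N2 ∧ g * a * g⁻¹ = E8Cent.t2 ∧ g * E8Cent.t2 * g⁻¹ = b ∧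
      g * x * g⁻¹ = u ∧ g * x' * g⁻¹ = u2 ∧ sigma2 * x * sigma2⁻¹ = x' ∧ sigma2 * a = a * sigma2 ∧
      chi x = negCo0 ∧ chi x' = 1 ∧
      ∀ (h1 : u * b ∈ Subgroup.centralizer {E8Cent.t2}) (h2 : u2 ∈ Subgroup.centralizer {E8Cent.t2}),
        nFix (f2 ⟨u * b, h1⟩) ≠ nFix (f2 ⟨u2, h2⟩) := by
  obtain ⟨c1, c2, c3, c4, c5, c6, c7, a23, a0, b23, b0, cc, cs, cj, cj', cg, cg', cx, cx'⟩ := twist_checks
  simp only [witOK, Bool.and_eq_true] at c1 c2 c3 c4
  obtain ⟨hvx, hMx, x, hxN, hx⟩ := exists_wit c1.1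
  obtain ⟨hvx', hMx', x', hxN', hx'⟩ := exists_wit c2.1
  obtain ⟨hvu, hMu, u, huN, hu⟩ := exists_wit c3.1
  obtain ⟨hvu', hMu', u2, huN', hu'⟩ := exists_wit c4.1
  obtain ⟨hvg, hMg, g, hgN, hg⟩ := exists_wit c5
  have haC := ofMask_mem_golayCode c6
  have hbC := ofMask_mem_golayCode c7
  let a : ↥Spor.Co2 := liftU (Leech.diag ⟨ofMask aW, haC⟩) (Edge.diag_fixU haC a23 a0)
  let b : ↥Spor.Co2 := liftU (Leech.diag ⟨ofMask bW, hbC⟩) (Edge.diag_fixU hbC b23 b0)
  have hga : g * a * g⁻¹ = E8Cent.t2 := mul_inv_eq_iff_eq_mul.2 (incl2_injective (by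
    rw [map_mul, map_mul, incl2_lift, incl2_t2]
    exact carry_diag hvg hg haC E8Cent.xWord.2 cg))
  have hgb : g * E8Cent.t2 * g⁻¹ = b := mul_inv_eq_iff_eq_mul.2 (incl2_injective (by
    rw [map_mul, map_mul, incl2_lift, incl2_t2]
    exact carry_diag hvg hg E8Cent.xWord.2 hbC cg'))
  have hgu : g * x * g⁻¹ = u := mul_inv_eq_iff_eq_mul.2 (incl2_injective (by
    rw [map_mul, map_mul, hg, hx, hu]
    exact conj_mono (conj_perm hvg hvx hvu cj)))
  have hgu' : g * x' * g⁻¹ = u2 := mul_inv_eq_iff_eq_mul.2 (incl2_injective (by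
    rw [map_mul, map_mul, hg, hx', hu']
    exact conj_mono (conj_perm hvg hvx' hvu' cj')))
  have hsx : sigma2 * x * sigma2⁻¹ = x' := mul_inv_eq_iff_eq_mul.2 (sig_conj hvx hvx' hx hx' cs)
  have hsa : sigma2 * a = a * sigma2 := incl2_injective (by
    rw [map_mul, map_mul, incl2_lift, Edge.sig_incl]
    exact Edge.sS_comm haC cc)
  have huC := wit_C2 hvu hu c3.2
  have hbA : b ∈ A2 := ⟨_, incl2_lift _ _⟩
  refine ⟨x, x', u, u2, a, b, g, ⟨hxN, wit_C2 hvx hx c1.2⟩, ⟨hxN', wit_C2 hvx' hx' c2.2⟩, ⟨huN, huC⟩,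
    ⟨huN', wit_C2 hvu' hu' c4.2⟩, ⟨_, incl2_lift _ _⟩, hbA, hgN, hga, hgb, hgu, hgu', hsx, hsa,
    (wit_chi hvx hx hxN).1 cx, (wit_chi hvx' hx' hxN').2 cx', fun h1 h2 => ?_⟩
  obtain ⟨l1, l2, l3, n1, n2⟩ := twist_lines
  obtain ⟨hvi, hai, -, -, -, hid⟩ := y2_checks
  have fu := f2_lines (x := ⟨u, huC⟩) hMu zero_code hvu hu l1
  have fu' := f2_lines (x := ⟨u2, h2⟩) hMu' zero_code hvu' hu' l3
  have fb := f2_lines (x := ⟨b, A2_le_C2 hbA⟩) (permOf_mem_M24 hvi hai) hbC hvi (by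
    rw [incl2_lift]
    exact congrArg mono (Prod.ext (Subtype.ext (Equiv.ext fun p => (hid p).symm)) rfl)) l2
  have e1 : nFix (f2 ⟨u * b, h1⟩) = 7 := by
    rw [show (⟨u * b, h1⟩ : ↥(Subgroup.centralizer ({E8Cent.t2} : Set ↥Spor.Co2))) =
      ⟨u, huC⟩ * ⟨b, A2_le_C2 hbA⟩ from rfl, map_mul, nFix, ← n1]
    congr 1
    refine Finset.filter_congr fun j _ => ?_
    rw [Equiv.Perm.mul_apply, fb, fu]
  have e2 : nFix (f2 ⟨u2, h2⟩) = 15 := by
    rw [nFix, ← n2]
    congr 1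
    refine Finset.filter_congr fun j _ => ?_
    rw [fu']
  omega

end Cfsg.Agent.Co2Recog.Side
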